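import Cfsg.Agent.Lib.AltGroups.ZassenhausBasic
import Cfsg.Agent.Lib.RealChar.ZassenhausBasic
import Mathlib.Tactic

/-!
An elementary construction of the abelian kernel of a point stabiliser in a Zassenhaus group whose
two-point stabilisers have even order.
-/

set_option autoImplicit false

open MulAction

namespace CfsgLib.AltGroups

/-- The kernel of a point stabiliser when the two-point stabilisers have even order. -/
theorem exists_kernel_of_even {G Ω : Type*} [Group G] [Finite G] [MulAction G Ω] [Fintype Ω]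
    (hZ : Cfsg.IsZassenhausGroup G Ω) {x o : Ω} (hxo : o ≠ x)
    (heven : Even (Nat.card ↥(stabilizer G x ⊓ stabilizer G o))) :
    ∃ F : Subgroup G, F ≤ stabilizer G x ∧ (F.subgroupOf (stabilizer G x)).Normal ∧
      IsMulCommutative F ∧ ∀ y z : Ω, y ≠ x → z ≠ x → ∃! u : F, (u : G) • y = z := by
  classical
  haveI : Fact (Nat.Prime 2) := ⟨Nat.prime_two⟩
  haveI := Fintype.ofFinite G
  obtain ⟨h, hh⟩ := exists_prime_orderOf_dvd_card'
    (G := ↥(stabilizer G x ⊓ stabilizer G o)) 2 (even_iff_two_dvd.mp heven)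
  set z : G := h.1 with hzdef
  have hz2 : orderOf z = 2 := by rw [hzdef, Subgroup.orderOf_coe, hh]
  have hzz : z * z = 1 := by rw [← pow_two, ← hz2, pow_orderOf_eq_one]
  have hz1 : z ≠ 1 := fun e => by simp [e] at hz2
  have hzx : z • x = x := (Subgroup.mem_inf.mp h.2).1
  have hzo : z • o = o := (Subgroup.mem_inf.mp h.2).2
  -- the involutions of the point stabiliser which fix a second point
  let T : Finset G := Finset.univ.filter fun u =>
    u * u = 1 ∧ u ≠ 1 ∧ u • x = x ∧ ∃ p, p ≠ x ∧ u • p = p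
  let Φ : Finset G := Finset.univ.filter fun u => u • x = x ∧ ∀ c, c ≠ x → u • c ≠ c
  have hT : ∀ {u}, u ∈ T ↔ u * u = 1 ∧ u ≠ 1 ∧ u • x = x ∧ ∃ p, p ≠ x ∧ u • p = p := by
    intro u; simp [T]
  have hΦ : ∀ {u}, u ∈ Φ ↔ u • x = x ∧ ∀ c, c ≠ x → u • c ≠ c := by intro u; simp [Φ]
  have hΦc : Φ.card + 2 = Fintype.card Ω := by
    rw [← CfsgLib.RealChar.Zassenhaus.card_fixing_only hZ x, Nat.card_eq_fintype_card, ← Fintype.card_coe]
    refine congrArg (· + 2) (Fintype.card_congr
      { toFun := fun u => ⟨⟨u.1, (hΦ.mp u.2).1⟩, (hΦ.mp u.2).2⟩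
        invFun := fun u => ⟨u.1.1, hΦ.mpr ⟨u.1.2, u.2⟩⟩
        left_inv := fun u => rfl
        right_inv := fun u => rfl })
  have hzT : z ∈ T := hT.mpr ⟨hzz, hz1, hzx, o, hxo, hzo⟩
  have hconj : ∀ g, g • x = x → ∀ u ∈ T, g * u * g⁻¹ ∈ T := by
    intro g hg u hu
    obtain ⟨h1, h2, h3, p, hp, hup⟩ := hT.mp hu
    refine hT.mpr ⟨?_, ?_, ?_, g • p, fun e => hp (MulAction.injective g (e.trans hg.symm)), ?_⟩
    · calc g * u * g⁻¹ * (g * u * g⁻¹) = g * (u * u) * g⁻¹ := by group
        _ = 1 := by rw [h1]; group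
    · rw [Ne, conj_eq_one_iff]; exact h2
    · rw [mul_smul, mul_smul, inv_smul_eq_iff.mpr hg.symm, h3, hg]
    · rw [mul_smul, mul_smul, inv_smul_smul, hup]
  have hpoint : ∀ p, p ≠ x → ∃ u ∈ T, u • p = p := by
    intro p hp
    obtain ⟨g, hgx, hgp⟩ := IsZassenhaus.move hZ (Ne.symm hxo) (Ne.symm hp)
    exact ⟨g * z * g⁻¹, hconj g hgx z hzT, by
      rw [mul_smul, mul_smul, ← hgp, inv_smul_smul, hzo]⟩
  -- products of involutions fixing different points fix only `x`
  have hfpf : ∀ u ∈ T, ∀ v ∈ T, ∀ p q, p ≠ x → q ≠ x → p ≠ q → u • p = p → v • q = q → u * v ∈ Φ := by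
    intro u hu v hv p q hp hq hpq hup hvq
    obtain ⟨hu1, hu2, hu3, -⟩ := hT.mp hu
    obtain ⟨hv1, hv2, hv3, -⟩ := hT.mp hv
    refine hΦ.mpr ⟨by rw [mul_smul, hv3, hu3], fun c hc e => ?_⟩
    rw [mul_smul] at e
    have hvc : v • c = u • c := by rw [← e, smul_smul u u, hu1, one_smul, e]
    set d := u • c with hd
    have hud : u • d = c := by rw [hd, smul_smul, hu1, one_smul]
    have hvd : v • d = c := by rw [← hvc, smul_smul, hv1, one_smul]
    by_cases hcd : d = c
    · have hcp : c = p := by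
        by_contra h
        exact hu2 (IsZassenhaus.eq_one_of_fix hZ (a := x) (b := p) (c := c) (Ne.symm hp) (Ne.symm hc) (Ne.symm h) hu3 hup hcd)
      have hcq : c = q := by
        by_contra h
        exact hv2 (IsZassenhaus.eq_one_of_fix hZ (a := x) (b := q) (c := c) (Ne.symm hq) (Ne.symm hc) (Ne.symm h) hv3 hvq (hvc.trans hcd))
      exact hpq (hcp.symm.trans hcq)
    · have hdx : d ≠ x := fun h => hc (by rw [← hud, h, hu3])
      have huv : u * v = 1 := IsZassenhaus.eq_one_of_fix hZ (a := x) (b := c) (c := d)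
        (Ne.symm hc) (Ne.symm hdx) (Ne.symm hcd) (by rw [mul_smul, hv3, hu3]) (by rw [mul_smul, hvc, hud])
        (by rw [mul_smul, hvd, hd])
      have : u = v := by rw [← mul_left_cancel (huv.trans hu1.symm)]
      rw [this] at hup
      exact hv2 (IsZassenhaus.eq_one_of_fix hZ (a := x) (b := p) (c := q) (Ne.symm hp) (Ne.symm hq) hpq hv3 hup hvq)
  -- each point carries exactly one of these involutions
  choose t htT htfix using fun p : {p : Ω // p ≠ x} => hpoint p.1 p.2
  have huniq : ∀ u ∈ T, ∀ p, ∀ hp : p ≠ x, u • p = p → u = t ⟨p, hp⟩ := by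
    intro u hu p hp hup
    by_contra hne
    have htinj : ∀ q q' : {p : Ω // p ≠ x}, t q = t q' → q = q' := by
      intro q q' h
      by_contra hqq
      have h2 := hfpf _ (htT q) _ (htT q') q.1 q'.1 q.2 q'.2 (fun h' => hqq (Subtype.ext h')) (htfix q) (htfix q')
      rw [h, (hT.mp (htT q')).1] at h2
      exact (hΦ.mp h2).2 q.1 q.2 (one_smul G _)
    have hmem : ∀ q : {q : Ω // q ≠ x ∧ q ≠ p}, t ⟨q.1, q.2.1⟩ * t ⟨p, hp⟩ ∈ Φ := fun q =>
      hfpf _ (htT _) _ (htT _) q.1 p q.2.1 hp q.2.2 (htfix _) (htfix _)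
    -- counting: the map `q ↦ t q * u` also lands in `Φ`
    have hsub : (Finset.univ.image fun q : {q : Ω // q ≠ x ∧ q ≠ p} => t ⟨q.1, q.2.1⟩) = Φ.image (fun w => w * t ⟨p, hp⟩) := by
      apply Finset.eq_of_subset_of_card_le
      · intro w hw
        obtain ⟨q, -, rfl⟩ := Finset.mem_image.mp hw
        refine Finset.mem_image.mpr ⟨_, hmem q, ?_⟩
        show t ⟨q.1, q.2.1⟩ * t ⟨p, hp⟩ * t ⟨p, hp⟩ = _
        rw [mul_assoc, (hT.mp (htT _)).1, mul_one]
      · refine le_trans Finset.card_image_le ?_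
        rw [Finset.card_image_of_injective (f := fun q : {q : Ω // q ≠ x ∧ q ≠ p} => t ⟨q.1, q.2.1⟩) _
          (fun q q' h => by
            have h' : q.1 = q'.1 := congrArg (fun y : {p : Ω // p ≠ x} => y.1) (htinj ⟨q.1, q.2.1⟩ ⟨q'.1, q'.2.1⟩ h)
            exact Subtype.ext h'),
          Finset.card_univ, Fintype.card_subtype]
        have : (Finset.univ.filter fun q : Ω => q ≠ x ∧ q ≠ p) = ((Finset.univ.erase x).erase p) := by
          ext q; simp [and_comm]
        rw [this, Finset.card_erase_of_mem (by simp [hp]), Finset.card_erase_of_mem (Finset.mem_univ x),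
          Finset.card_univ]
        omega
    -- conjugating by `u` fixes `p`, so `u * t p` would be fixed-point-free too
    obtain ⟨hu1, hu2, hu3, -⟩ := hT.mp hu
    obtain ⟨q, hqx, hqp, -⟩ : ∃ q, q ≠ x ∧ q ≠ p ∧ True := by
      obtain ⟨q, h1, h2⟩ := IsZassenhaus.exists_third hZ (a := x) (b := p)
      exact ⟨q, h1, h2, trivial⟩
    have hkey : t ⟨q, hqx⟩ * u ∈ Φ := hfpf _ (htT _) _ hu q p hqx hp hqp (htfix _) hup
    have : t ⟨q, hqx⟩ * u * t ⟨p, hp⟩ ∈ Φ.image (fun w => w * t ⟨p, hp⟩) := Finset.mem_image_of_mem _ hkey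
    rw [← hsub] at this
    obtain ⟨r, -, hr⟩ := Finset.mem_image.mp this
    -- the element `t r = t q * u * t p` fixes `r`; so `t q * t r = u * t p` fixes `p`
    have hprod : t ⟨q, hqx⟩ * t ⟨r.1, r.2.1⟩ = u * t ⟨p, hp⟩ := by
      rw [hr, ← mul_assoc, ← mul_assoc, (hT.mp (htT _)).1, one_mul]
    by_cases hqr : q = r.1
    · subst hqr
      rw [(hT.mp (htT _)).1] at hprod
      exact hne ((mul_eq_one_iff_eq_inv.mp hprod.symm).trans (inv_eq_of_mul_eq_one_right (hT.mp (htT _)).1))
    · have h2 := hfpf _ (htT ⟨q, hqx⟩) _ (htT ⟨r.1, r.2.1⟩) q r.1 hqx r.2.1 hqr (htfix _) (htfix _)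
      rw [hprod] at h2
      exact (hΦ.mp h2).2 p hp (by rw [mul_smul, htfix, hup])
  -- the fixed-point-free elements are `t p * z`
  have hz_eq : z = t ⟨o, hxo⟩ := huniq z hzT o hxo hzo
  have hΦeq : ∀ w ∈ Φ, ∀ v ∈ T, ∃ u ∈ T, w = u * v := by
    intro w hw v hv
    obtain ⟨-, hv2, hv3, p, hp, hvp⟩ := hT.mp hv
    have hsub : (Finset.univ.image fun q : {q : Ω // q ≠ x ∧ q ≠ p} => t ⟨q.1, q.2.1⟩ * v) = Φ := by
      apply Finset.eq_of_subset_of_card_le
      · intro w hw
        obtain ⟨q, -, rfl⟩ := Finset.mem_image.mp hw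
        exact hfpf _ (htT _) _ hv q.1 p q.2.1 hp q.2.2 (htfix _) hvp
      · rw [Finset.card_image_of_injective _ (fun q q' h => by
          have h1 := mul_right_cancel h
          by_contra hqq
          have h2 := hfpf _ (htT ⟨q.1, q.2.1⟩) _ (htT ⟨q'.1, q'.2.1⟩) q.1 q'.1 q.2.1 q'.2.1
            (fun h' => hqq (Subtype.ext h')) (htfix _) (htfix _)
          rw [h1, (hT.mp (htT _)).1] at h2
          exact (hΦ.mp h2).2 q.1 q.2.1 (one_smul G _)),
          Finset.card_univ, Fintype.card_subtype]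
        have : (Finset.univ.filter fun q : Ω => q ≠ x ∧ q ≠ p) = ((Finset.univ.erase x).erase p) := by
          ext q; simp [and_comm]
        rw [this, Finset.card_erase_of_mem (by simp [hp]), Finset.card_erase_of_mem (Finset.mem_univ x),
          Finset.card_univ]
        omega
    rw [← hsub] at hw
    obtain ⟨q, -, rfl⟩ := Finset.mem_image.mp hw
    exact ⟨_, htT _, rfl⟩
  have hprodmem : ∀ u ∈ T, ∀ v ∈ T, u * v = 1 ∨ u * v ∈ Φ := by
    intro u hu v hv
    obtain ⟨-, -, -, p, hp, hup⟩ := hT.mp hu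
    obtain ⟨-, -, -, q, hq, hvq⟩ := hT.mp hv
    by_cases hpq : p = q
    · subst hpq
      left
      rw [huniq u hu p hp hup, huniq v hv p hp hvq]
      exact (hT.mp (htT _)).1
    · exact Or.inr (hfpf u hu v hv p q hp hq hpq hup hvq)
  have hinv : ∀ w, (w = 1 ∨ w ∈ Φ) → z * w * z = w⁻¹ := by
    rintro w (rfl | hw)
    · simp [hzz]
    · obtain ⟨u, hu, rfl⟩ := hΦeq w hw z hzT
      have h1 := (hT.mp hu).1
      rw [mul_inv_rev, inv_eq_of_mul_eq_one_right hzz, inv_eq_of_mul_eq_one_right h1, mul_assoc,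
        mul_assoc u z z, hzz, mul_one]
  let F : Subgroup G :=
    { carrier := {w | w = 1 ∨ w ∈ Φ}
      one_mem' := Or.inl rfl
      mul_mem' := by
        intro w w' hw hw'
        rcases hw with rfl | hw
        · rwa [one_mul]
        rcases hw' with rfl | hw'
        · rw [mul_one]; exact Or.inr hw
        obtain ⟨u, hu, rfl⟩ := hΦeq w hw z hzT
        obtain ⟨v, hv, rfl⟩ := hΦeq w' hw' z hzT
        have h1 : z * v * z⁻¹ ∈ T := hconj z hzx v hv
        rw [inv_eq_of_mul_eq_one_right hzz] at h1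
        have h2 : u * z * (v * z) = u * (z * v * z) := by group
        rw [h2]
        exact hprodmem u hu _ h1
      inv_mem' := by
        rintro w (rfl | hw)
        · exact Or.inl inv_one
        · obtain ⟨u, hu, rfl⟩ := hΦeq w hw z hzT
          rw [mul_inv_rev, inv_eq_of_mul_eq_one_right hzz, inv_eq_of_mul_eq_one_right (hT.mp hu).1]
          exact hprodmem z hzT u hu }
  have hFmem : ∀ {w}, w ∈ F ↔ w = 1 ∨ w ∈ Φ := Iff.rfl
  have hFx : ∀ w ∈ F, w • x = x := by
    rintro w (rfl | hw)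
    · exact one_smul G x
    · exact (hΦ.mp hw).1
  have hFc : Nat.card F + 1 = Fintype.card Ω := by
    rw [Nat.card_eq_fintype_card, Fintype.card_subtype]
    have h1 : (1 : G) ∉ Φ := fun h => (hΦ.mp h).2 o hxo (one_smul G o)
    have : (Finset.univ.filter fun w : G => w ∈ F) = insert 1 Φ := by
      ext w; simp [hFmem]
    rw [this, Finset.card_insert_of_notMem h1]
    omega
  refine ⟨F, fun w hw => hFx w hw, ⟨fun w hw g => ?_⟩, ⟨⟨fun w w' => ?_⟩⟩, fun y y' hy hy' => ?_⟩
  · rw [Subgroup.mem_subgroupOf] at hw ⊢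
    rcases hw with hw | hw
    · left
      show (g : G) * (w : G) * (g : G)⁻¹ = 1
      rw [hw]; group
    · right
      obtain ⟨-, hw2⟩ := hΦ.mp hw
      refine hΦ.mpr ⟨?_, fun c hc e => ?_⟩
      · show (((g : G) * (w : G) * (g : G)⁻¹)) • x = x
        rw [mul_smul, mul_smul, inv_smul_eq_iff.mpr g.2.symm, w.2, g.2]
      · change ((g : G) * (w : G) * (g : G)⁻¹) • c = c at e
        rw [mul_smul, mul_smul, smul_eq_iff_eq_inv_smul] at e
        exact hw2 _ (fun h => hc (by rw [inv_smul_eq_iff] at h; rw [h]; exact g.2)) e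
  · apply Subtype.ext
    have h1 := hinv _ (w * w').2
    have h2 := hinv _ w.2
    have h3 := hinv _ w'.2
    have h4 : z * ((w : G) * w') * z = (z * w * z) * (z * w' * z) := by
      calc z * ((w : G) * w') * z = z * (w : G) * 1 * w' * z := by group
        _ = z * (w : G) * (z * z) * w' * z := by rw [hzz]
        _ = _ := by group
    rw [Subgroup.coe_mul] at h1
    rw [h4, h2, h3] at h1
    have := congrArg (·⁻¹) h1
    simpa using this.symm
  · have hbij : Function.Bijective (fun u : F => (⟨(u : G) • y,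
        fun h => hy (MulAction.injective (u : G) (h.trans (hFx u u.2).symm))⟩ : {c : Ω // c ≠ x})) := by
      rw [Fintype.bijective_iff_injective_and_card]
      refine ⟨fun u v huv => ?_, ?_⟩
      · have h1 : ((u : G)⁻¹ * v) • y = y := by
          rw [mul_smul, inv_smul_eq_iff]; exact (congrArg Subtype.val huv).symm
        rcases (F.mul_mem (F.inv_mem u.2) v.2) with h | h
        · exact Subtype.ext (inv_mul_eq_one.mp h)
        · exact absurd h1 ((hΦ.mp h).2 y hy)
      · rw [← Nat.card_eq_fintype_card, Fintype.card_subtype_compl, Fintype.card_subtype_eq]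
        omega
    obtain ⟨u, hu, huu⟩ := hbij.existsUnique ⟨y', hy'⟩
    exact ⟨u, congrArg Subtype.val hu, fun v hv => huu v (Subtype.ext hv)⟩

end CfsgLib.AltGroups
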