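import Mathlib

/-!
# Writing a permutation of odd cycle lengths as a product of a long cycle and a shorter one

For a permutation `v` all of whose cycles have odd length and an invariant finite set `D`, a
permutation `σ` supported on `D` such that both `σ` and `v * σ` are cycles on `D`; when `v` moves
a point of `D`, also one fixing two points of `D`, being a cycle on the others, with `v * σ` a
cycle on `D`. And a transitive group containing an element of the latter kind is not solvable.
-/

set_option autoImplicit false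
set_option linter.unusedSectionVars false

namespace CfsgLib.AltGroups.CycleGlue

open Equiv Equiv.Perm

variable {α : Type*} [Fintype α] [DecidableEq α]

/-- To be a cycle on a finite invariant set it suffices that all points are linked to one. -/
theorem isCycleOn_mk {f : Perm α} {D : Finset α} (a : α) (hmaps : ∀ x ∈ D, f x ∈ D)
    (hconn : ∀ x ∈ D, f.SameCycle a x) : f.IsCycleOn (D : Set α) := by
  refine ⟨⟨fun x hx => hmaps x hx, f.injective.injOn, ?_⟩, fun x hx y hy =>
    (hconn x hx).symm.trans (hconn y hy)⟩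
  intro y hy
  have himg : D.image f = D := Finset.eq_of_subset_of_card_le
    (fun z hz => by obtain ⟨x, hx, rfl⟩ := Finset.mem_image.1 hz; exact hmaps x hx)
    (le_of_eq (Finset.card_image_of_injective _ f.injective).symm)
  obtain ⟨x, hx, hxy⟩ := Finset.mem_image.1 (himg.symm ▸ (Finset.mem_coe.1 hy))
  exact ⟨x, hx, hxy⟩

theorem sameCycle_apply_self (f : Perm α) (x : α) : f.SameCycle x (f x) :=
  ⟨1, by simp⟩

/-- A swap of points of two cycles joins them. -/
theorem isCycleOn_mul_swap {h : Perm α} {D₁ D₂ : Finset α} (hd : Disjoint D₁ D₂)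
    (h1 : h.IsCycleOn (D₁ : Set α)) (h2 : h.IsCycleOn (D₂ : Set α)) {a b : α} (ha : a ∈ D₁)
    (hb : b ∈ D₂) : (h * swap a b).IsCycleOn ((D₁ ∪ D₂ : Finset α) : Set α) := by
  set P := h * swap a b with hP
  have hne : ∀ {x y}, x ∈ D₁ → y ∈ D₂ → x ≠ y := fun {x y} hx hy e =>
    Finset.disjoint_left.1 hd hx (e ▸ hy)
  have hPa : P a = h b := by simp [hP]
  have hPb : P b = h a := by simp [hP]
  have hPo : ∀ x, x ≠ a → x ≠ b → P x = h x := fun x h1 h2 => by
    simp [hP, swap_apply_of_ne_of_ne h1 h2]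
  have mem1 : ∀ x ∈ D₁, h x ∈ D₁ := fun x hx => by
    simpa using h1.1.mapsTo (show x ∈ (D₁ : Set α) from hx)
  have mem2 : ∀ x ∈ D₂, h x ∈ D₂ := fun x hx => by
    simpa using h2.1.mapsTo (show x ∈ (D₂ : Set α) from hx)
  have chain : ∀ (D : Finset α) (c : α), h.IsCycleOn (D : Set α) → c ∈ D →
      (∀ x ∈ D, x ≠ c → P x = h x) → ∀ x ∈ D, P.SameCycle (h c) x := by
    intro D c hD hc hPD x hx
    have hmem : ∀ i : ℕ, (h ^ i) c ∈ D := by
      intro i; induction i with
      | zero => simpa using hc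
      | succ i ih =>
        rw [pow_succ', Perm.mul_apply]
        simpa using hD.1.mapsTo (show (h ^ i) c ∈ (D : Set α) from ih)
    have step : ∀ i : ℕ, P.SameCycle (h c) ((h ^ (i + 1)) c) := by
      intro i; induction i with
      | zero => simpa using SameCycle.refl P (h c)
      | succ i ih =>
        rw [pow_succ', Perm.mul_apply]
        by_cases hz : (h ^ (i + 1)) c = c
        · rw [hz]
        · rw [← hPD _ (hmem (i + 1)) hz]
          exact ih.trans (sameCycle_apply_self P _)
    obtain ⟨i, -, hi⟩ := hD.exists_pow_eq (by simpa using hc) (by simpa using hx)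
    rcases Nat.eq_zero_or_pos i with rfl | hipos
    · simp only [pow_zero, Perm.coe_one, id_eq] at hi
      subst hi
      have hk : (h ^ D.card) c = c := (hD.pow_apply_eq hc).2 dvd_rfl
      obtain ⟨k, hk'⟩ := Nat.exists_eq_succ_of_ne_zero (Finset.card_ne_zero_of_mem hc)
      have := step k
      rwa [show k + 1 = D.card by omega, hk] at this
    · have := step (i - 1)
      rwa [show i - 1 + 1 = i by omega, hi] at this
  have c1 := chain D₁ a h1 ha fun x hx hxa => hPo x hxa (hne hx hb)
  have c2 := chain D₂ b h2 hb fun x hx hxb => hPo x (fun e => hne ha hx e.symm) hxb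
  refine isCycleOn_mk (h a) ?_ ?_
  · intro x hx
    rcases Finset.mem_union.1 hx with hx | hx
    · by_cases e : x = a
      · subst e; rw [hPa]; exact Finset.mem_union_right _ (mem2 b hb)
      · rw [hPo x e (hne hx hb)]; exact Finset.mem_union_left _ (mem1 x hx)
    · by_cases e : x = b
      · subst e; rw [hPb]; exact Finset.mem_union_left _ (mem1 a ha)
      · rw [hPo x (fun h' => hne ha hx h'.symm) e]; exact Finset.mem_union_right _ (mem2 x hx)
  · intro x hx
    rcases Finset.mem_union.1 hx with hx | hx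
    · exact c1 x hx
    · exact ((c1 a ha).trans (hPa ▸ sameCycle_apply_self P a)).trans (c2 x hx)

/-- The cycle of `x` as a finite set. -/
def orb (v : Perm α) (x : α) : Finset α := Finset.univ.filter fun y => v.SameCycle x y

@[simp] theorem mem_orb {v : Perm α} {x y : α} : y ∈ orb v x ↔ v.SameCycle x y := by simp [orb]

theorem self_mem_orb (v : Perm α) (x : α) : x ∈ orb v x := mem_orb.2 (SameCycle.refl v x)

theorem isCycleOn_orb (v : Perm α) (x : α) : v.IsCycleOn (orb v x : Set α) :=
  isCycleOn_mk x (fun y hy => mem_orb.2 ((mem_orb.1 hy).trans (sameCycle_apply_self v y)))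
    fun _ hy => mem_orb.1 hy

theorem card_orb_dvd_orderOf (v : Perm α) (x : α) : (orb v x).card ∣ orderOf v :=
  ((isCycleOn_orb v x).pow_apply_eq (self_mem_orb v x)).1 (by simp [pow_orderOf_eq_one])

theorem orb_subset_of_mem {v : Perm α} {D : Finset α}
    (hD : ∀ x y, v.SameCycle x y → x ∈ D → y ∈ D) {x : α} (hx : x ∈ D) : orb v x ⊆ D :=
  fun y hy => hD x y (mem_orb.1 hy) hx

theorem one_lt_card_orb {v : Perm α} {x : α} (hx : v x ≠ x) : 1 < (orb v x).card :=
  Finset.one_lt_card.2 ⟨x, self_mem_orb v x, v x, mem_orb.2 (sameCycle_apply_self v x), Ne.symm hx⟩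

theorem sdiff_invariant {v : Perm α} {D : Finset α}
    (hD : ∀ x y, v.SameCycle x y → x ∈ D → y ∈ D) (x₀ : α) :
    ∀ x y, v.SameCycle x y → x ∈ D \ orb v x₀ → y ∈ D \ orb v x₀ := by
  intro x y hxy hx
  simp only [Finset.mem_sdiff, mem_orb] at hx ⊢
  exact ⟨hD x y hxy hx.1, fun h => hx.2 (h.trans hxy.symm)⟩

/-- Supported on `D`. -/
def SuppIn (σ : Perm α) (D : Finset α) : Prop := ∀ x, x ∉ D → σ x = x

theorem SuppIn.maps {σ : Perm α} {D : Finset α} (h : SuppIn σ D) {x : α} (hx : x ∈ D) :
    σ x ∈ D := by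
  by_contra hn
  exact hn ((σ.injective (h _ hn)).symm ▸ hx)

theorem cycleOf_orb (v : Perm α) (x : α) :
    SuppIn (v.cycleOf x) (orb v x) ∧ ∀ y ∈ orb v x, v.cycleOf x y = v y :=
  ⟨fun _ hy => cycleOf_apply_of_not_sameCycle fun h => hy (mem_orb.2 h),
    fun _ hy => (mem_orb.1 hy).cycleOf_apply⟩

theorem isCycleOn_congr {f g : Perm α} {D : Finset α} (hg : g.IsCycleOn (D : Set α))
    (h : ∀ y ∈ D, f y = g y) : f.IsCycleOn (D : Set α) := by
  rcases D.eq_empty_or_nonempty with rfl | ⟨a, ha⟩
  · simp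
  have hp : ∀ i : ℕ, (f ^ i) a = (g ^ i) a ∧ (g ^ i) a ∈ D := by
    intro i; induction i with
    | zero => simpa using ha
    | succ i ih =>
      refine ⟨?_, ?_⟩
      · rw [pow_succ', pow_succ', Perm.mul_apply, Perm.mul_apply, ih.1, h _ ih.2]
      · rw [pow_succ', Perm.mul_apply]
        simpa using hg.1.mapsTo (show (g ^ i) a ∈ (D : Set α) from ih.2)
  refine isCycleOn_mk a (fun x hx => by
    rw [h x hx]; simpa using hg.1.mapsTo (show x ∈ (D : Set α) from hx)) fun x hx => ?_
  obtain ⟨i, -, hi⟩ := hg.exists_pow_eq (by simpa using ha) (by simpa using hx)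
  exact ⟨i, by rw [zpow_natCast, (hp i).1, hi]⟩

/-- One cycle of odd length: both `v` and its square. -/
theorem exists_orb (v : Perm α) (x : α) (hodd : Odd (orb v x).card) :
    ∃ σ : Perm α, SuppIn σ (orb v x) ∧ σ.IsCycleOn (orb v x : Set α) ∧
      (v * σ).IsCycleOn (orb v x : Set α) := by
  obtain ⟨h1, h2⟩ := cycleOf_orb v x
  refine ⟨v.cycleOf x, h1, isCycleOn_congr (isCycleOn_orb v x) h2, ?_⟩
  have hsq : (v ^ 2).IsCycleOn (orb v x : Set α) := by
    refine isCycleOn_mk x (fun y hy => mem_orb.2 ((mem_orb.1 hy).trans ⟨2, rfl⟩)) fun y hy => ?_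
    obtain ⟨i, -, hi⟩ := (isCycleOn_orb v x).exists_pow_eq
      (by simpa using self_mem_orb v x) (by simpa using hy)
    obtain ⟨k, hk⟩ := hodd
    refine ⟨((i * (k + 1) : ℕ) : ℤ), ?_⟩
    rw [zpow_natCast, ← pow_mul, show 2 * (i * (k + 1)) = i + i * (orb v x).card by rw [hk]; ring,
      pow_add, Perm.mul_apply,
      ((isCycleOn_orb v x).pow_apply_eq (self_mem_orb v x)).2 (dvd_mul_left _ _), hi]
  exact isCycleOn_congr hsq fun y hy => by rw [Perm.mul_apply, h2 y hy, sq, Perm.mul_apply]

/-- Joining the solutions on two invariant pieces. -/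
theorem glue {v : Perm α} {C R B₁ : Finset α} (hd : Disjoint C R) (hB₁ : B₁ ⊆ C)
    {σ₁ σ₂ : Perm α} (hs1 : SuppIn σ₁ C) (hs2 : SuppIn σ₂ R) (h1 : σ₁.IsCycleOn (B₁ : Set α))
    (h2 : σ₂.IsCycleOn (R : Set α)) (hv1 : (v * σ₁).IsCycleOn (C : Set α))
    (hv2 : (v * σ₂).IsCycleOn (R : Set α)) (hB : B₁.Nonempty) (hR : R.Nonempty) :
    ∃ σ : Perm α, SuppIn σ (C ∪ R) ∧ σ.IsCycleOn ((B₁ ∪ R : Finset α) : Set α) ∧
      (v * σ).IsCycleOn ((C ∪ R : Finset α) : Set α) ∧
      ∀ x ∈ C, x ∉ B₁ → σ x = σ₁ x := by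
  obtain ⟨a, ha⟩ := hB
  obtain ⟨b, hb⟩ := hR
  have e1 : ∀ x ∈ C, (σ₁ * σ₂) x = σ₁ x := fun x hx => by
    rw [Perm.mul_apply, hs2 x (Finset.disjoint_left.1 hd hx)]
  have e2 : ∀ x ∈ R, (σ₁ * σ₂) x = σ₂ x := fun x hx => by
    rw [Perm.mul_apply, hs1 _ (fun hc => Finset.disjoint_left.1 hd hc (hs2.maps hx))]
  refine ⟨σ₁ * σ₂ * swap a b, ?_, ?_, ?_, ?_⟩
  · intro x hx
    rw [Finset.mem_union, not_or] at hx
    have n1 : x ≠ a := fun e => by subst e; exact hx.1 (hB₁ ha)
    have n2 : x ≠ b := fun e => by subst e; exact hx.2 hb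
    rw [Perm.mul_apply, swap_apply_of_ne_of_ne n1 n2, Perm.mul_apply, hs2 x hx.2, hs1 x hx.1]
  · exact isCycleOn_mul_swap (hd.mono_left hB₁)
      (isCycleOn_congr h1 fun x hx => e1 x (hB₁ hx)) (isCycleOn_congr h2 e2) ha hb
  · rw [← mul_assoc]
    exact isCycleOn_mul_swap hd
      (isCycleOn_congr hv1 fun x hx => by rw [Perm.mul_apply, e1 x hx, Perm.mul_apply])
      (isCycleOn_congr hv2 fun x hx => by rw [Perm.mul_apply, e2 x hx, Perm.mul_apply])
      (hB₁ ha) hb
  · intro x hx hx'
    have n1 : x ≠ a := fun e => by subst e; exact hx' ha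
    have n2 : x ≠ b := fun e => by subst e; exact Finset.disjoint_left.1 hd hx hb
    rw [Perm.mul_apply, swap_apply_of_ne_of_ne n1 n2, e1 x hx]

theorem exists_two_cycles {v : Perm α} (hv : ∀ x, Odd (orb v x).card) :
    ∀ (n : ℕ) (D : Finset α), D.card ≤ n → D.Nonempty →
      (∀ x y, v.SameCycle x y → x ∈ D → y ∈ D) →
      ∃ σ : Perm α, SuppIn σ D ∧ σ.IsCycleOn (D : Set α) ∧ (v * σ).IsCycleOn (D : Set α) := by
  intro n
  induction n with
  | zero => intro D hD hne; have := hne.card_pos; omega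
  | succ n ih =>
    intro D hD hne hinv
    obtain ⟨x, hx⟩ := hne
    have hsub := orb_subset_of_mem hinv hx
    obtain ⟨σ₁, hs1, h1, hv1⟩ := exists_orb v x (hv x)
    rcases (D \ orb v x).eq_empty_or_nonempty with he | hR
    · rw [Finset.Subset.antisymm (Finset.sdiff_eq_empty_iff_subset.1 he) hsub]
      exact ⟨σ₁, hs1, h1, hv1⟩
    · have hlt : (D \ orb v x).card < D.card := Finset.card_lt_card
        (Finset.sdiff_ssubset hsub ⟨x, self_mem_orb v x⟩)
      obtain ⟨σ₂, hs2, h2, hv2⟩ := ih _ (by omega) hR (sdiff_invariant hinv x)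
      obtain ⟨σ, hs, h, hvσ, -⟩ := glue Finset.disjoint_sdiff subset_rfl hs1 hs2 h1 h2 hv1 hv2
        ⟨x, self_mem_orb v x⟩ hR
      rw [Finset.union_sdiff_of_subset hsub] at hs h hvσ
      exact ⟨σ, hs, h, hvσ⟩

/-- What is wanted of `σ`: it fixes `a`, `b`, is a cycle on the other points of `D` and the
product with `v` is a cycle on `D`. -/
structure Missing (v : Perm α) (D : Finset α) (σ : Perm α) (a b : α) : Prop where
  supp : SuppIn σ D
  a_mem : a ∈ D
  b_mem : b ∈ D
  ne : a ≠ b
  fix_a : σ a = a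
  fix_b : σ b = b
  cyc : σ.IsCycleOn ((D \ {a, b} : Finset α) : Set α)
  prod : (v * σ).IsCycleOn (D : Set α)

/-- On a single cycle of odd length at least three, omit two consecutive points. -/
theorem missing_consecutive (v : Perm α) (a : α) (hm : 3 ≤ (orb v a).card)
    (hodd : Odd (orb v a).card) :
    Missing v (orb v a)
      (swap a (v (v a)) * swap (v a) (v (v a)) * v.cycleOf a) a (v a) := by
  set m := (orb v a).card with hmdef
  set σ := swap a (v (v a)) * swap (v a) (v (v a)) * v.cycleOf a with hσ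
  let p : ℕ → α := fun i => (v ^ i) a
  have hC := isCycleOn_orb v a
  have hpmem : ∀ i, p i ∈ orb v a := fun i => mem_orb.2 ⟨i, by simp [p]⟩
  have hp0 : p 0 = a := by simp [p]
  have hp1 : p 1 = v a := by simp [p]
  have hp2 : p 2 = v (v a) := by simp [p, sq]
  have hpm : p m = a := (hC.pow_apply_eq (self_mem_orb v a)).2 dvd_rfl
  have hinj : ∀ i j, i < m → j < m → p i = p j → i = j := by
    intro i j hi hj h
    exact Nat.ModEq.eq_of_lt_of_lt ((hC.pow_apply_eq_pow_apply (self_mem_orb v a)).1 h) hi hj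
  have hsucc : ∀ i, v (p i) = p (i + 1) := fun i => by simp [p, pow_succ']
  have hexi : ∀ y ∈ orb v a, ∃ i < m, p i = y := fun y hy => by
    obtain ⟨i, hi, h⟩ := hC.exists_pow_eq (by simpa using self_mem_orb v a) (by simpa using hy)
    exact ⟨i, hi, h⟩
  obtain ⟨hcs, hcv⟩ := cycleOf_orb v a
  have hτ : ∀ i, σ (p i) = swap a (v (v a)) (swap (v a) (v (v a)) (p (i + 1))) := fun i => by
    rw [hσ, Perm.mul_apply, Perm.mul_apply, hcv _ (hpmem i), hsucc]
  have s0 : σ (p 0) = p 0 := by
    rw [hτ, hp1, swap_apply_left, swap_apply_right, hp0]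
  have s1 : σ (p 1) = p 1 := by
    rw [hτ, hp2, swap_apply_right, swap_apply_of_ne_of_ne, hp1]
    · intro e; rw [← hp1, ← hp0] at e; exact absurd (hinj 1 0 (by omega) (by omega) e) (by omega)
    · intro e; rw [← hp2, ← hp1] at e; exact absurd (hinj 1 2 (by omega) (by omega) e) (by omega)
  have si : ∀ i, 2 ≤ i → i + 1 < m → σ (p i) = p (i + 1) := by
    intro i h2 hi
    have n0 : p (i + 1) ≠ a := fun e => by
      rw [← hp0] at e; exact absurd (hinj _ 0 (by omega) (by omega) e) (by omega)
    have n1 : p (i + 1) ≠ v a := fun e => by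
      rw [← hp1] at e; exact absurd (hinj _ 1 (by omega) (by omega) e) (by omega)
    have n2 : p (i + 1) ≠ v (v a) := fun e => by
      rw [← hp2] at e; exact absurd (hinj _ 2 (by omega) (by omega) e) (by omega)
    rw [hτ, swap_apply_of_ne_of_ne n1 n2, swap_apply_of_ne_of_ne n0 n2]
  have slast : σ (p (m - 1)) = p 2 := by
    have n1 : a ≠ v a := fun e => by
      rw [← hp1, ← hp0] at e; exact absurd (hinj 0 1 (by omega) (by omega) e) (by omega)
    have n2 : a ≠ v (v a) := fun e => by
      rw [← hp2, ← hp0] at e; exact absurd (hinj 0 2 (by omega) (by omega) e) (by omega)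
    rw [hτ, show m - 1 + 1 = m by omega, hpm, swap_apply_of_ne_of_ne n1 n2, swap_apply_left, hp2]
  have hsupp : SuppIn σ (orb v a) := by
    intro y hy
    have h' : ∀ i, y ≠ p i := fun i e => hy (e.symm ▸ hpmem i)
    rw [hσ, Perm.mul_apply, Perm.mul_apply, hcs y hy,
      swap_apply_of_ne_of_ne (fun e => h' 1 (e.trans hp1.symm)) (fun e => h' 2 (e.trans hp2.symm)),
      swap_apply_of_ne_of_ne (fun e => h' 0 (e.trans hp0.symm)) (fun e => h' 2 (e.trans hp2.symm))]
  have hne01 : a ≠ v a := fun e => by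
    rw [← hp1, ← hp0] at e; exact absurd (hinj 0 1 (by omega) (by omega) e) (by omega)
  refine ⟨hsupp, self_mem_orb v a, hp1 ▸ hpmem 1, hne01, hp0 ▸ s0, hp1 ▸ s1, ?_, ?_⟩
  · refine isCycleOn_mk (p 2) ?_ ?_
    · intro y hy
      simp only [Finset.mem_sdiff, Finset.mem_insert, Finset.mem_singleton, not_or] at hy ⊢
      refine ⟨hsupp.maps hy.1, fun e => hy.2.1 ?_, fun e => hy.2.2 ?_⟩
      · exact σ.injective (e.trans (hp0 ▸ s0).symm)
      · exact σ.injective (e.trans (hp1 ▸ s1).symm)
    · intro y hy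
      simp only [Finset.mem_sdiff, Finset.mem_insert, Finset.mem_singleton, not_or] at hy
      obtain ⟨i, hi, rfl⟩ := hexi y hy.1
      have h2i : 2 ≤ i := by
        by_contra h
        interval_cases i
        · exact hy.2.1 hp0
        · exact hy.2.2 hp1
      clear hy
      induction i, h2i using Nat.le_induction with
      | base => exact SameCycle.refl σ _
      | succ i h2i ih =>
        have := sameCycle_apply_self σ (p i)
        rw [si i h2i hi] at this
        exact (ih (by omega)).trans this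
  · set P := v * σ with hP
    have q0 : P.SameCycle (p 0) (p 1) := by
      have := sameCycle_apply_self P (p 0)
      rwa [hP, Perm.mul_apply, s0, hsucc] at this
    have q1 : P.SameCycle (p 1) (p 2) := by
      have := sameCycle_apply_self P (p 1)
      rwa [hP, Perm.mul_apply, s1, hsucc] at this
    have qi : ∀ i, 2 ≤ i → i + 1 < m → P.SameCycle (p i) (p (i + 2)) := by
      intro i h2 hi
      have := sameCycle_apply_self P (p i)
      rwa [hP, Perm.mul_apply, si i h2 hi, hsucc] at this
    have ql : P.SameCycle (p (m - 1)) (p 3) := by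
      have := sameCycle_apply_self P (p (m - 1))
      rwa [hP, Perm.mul_apply, slast, hsucc] at this
    obtain ⟨k, hk⟩ := hodd
    have heven : ∀ j, 1 ≤ j → 2 * j < m → P.SameCycle (p 2) (p (2 * j)) := by
      intro j hj
      induction j, hj using Nat.le_induction with
      | base => intro _; exact SameCycle.refl P _
      | succ j hj ih =>
        intro hlt
        exact (ih (by omega)).trans (qi (2 * j) (by omega) (by omega))
    have hoddp : ∀ j, 1 ≤ j → 2 * j + 1 ≤ m → P.SameCycle (p 2) (p (2 * j + 1)) := by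
      intro j hj
      induction j, hj using Nat.le_induction with
      | base =>
        intro _
        refine SameCycle.trans ?_ ql
        have := heven k (by omega) (by omega)
        rwa [show m - 1 = 2 * k by omega]
      | succ j hj ih =>
        intro hlt
        exact (ih (by omega)).trans (qi (2 * j + 1) (by omega) (by omega))
    refine isCycleOn_mk (p 2) (fun y hy => ?_) fun y hy => ?_
    · exact mem_orb.2 ((mem_orb.1 (hsupp.maps hy)).trans (sameCycle_apply_self v _))
    · obtain ⟨i, hi, rfl⟩ := hexi y hy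
      rcases Nat.even_or_odd i with ⟨j, hj⟩ | ⟨j, hj⟩
      · rcases Nat.eq_zero_or_pos j with rfl | hjp
        · rw [hj]; exact (q0.trans q1).symm
        · rw [hj, ← two_mul]; exact heven j hjp (by omega)
      · rcases Nat.eq_zero_or_pos j with rfl | hjp
        · rw [hj]; exact q1.symm
        · rw [hj]; exact hoddp j hjp (by omega)

/-- The general case. -/
theorem exists_missing {v : Perm α} (hv : ∀ x, Odd (orb v x).card) {D : Finset α}
    (hinv : ∀ x y, v.SameCycle x y → x ∈ D → y ∈ D) {x : α} (hx : x ∈ D) (hmv : v x ≠ x) :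
    ∃ σ a b, Missing v D σ a b := by
  have h3 : 3 ≤ (orb v x).card := by
    obtain ⟨k, hk⟩ := hv x
    have := one_lt_card_orb hmv
    omega
  have M := missing_consecutive v x h3 (hv x)
  set σ₁ := swap x (v (v x)) * swap (v x) (v (v x)) * v.cycleOf x
  have hsub := orb_subset_of_mem hinv hx
  rcases (D \ orb v x).eq_empty_or_nonempty with he | hR
  · refine ⟨σ₁, x, v x, ?_⟩
    rwa [Finset.Subset.antisymm (Finset.sdiff_eq_empty_iff_subset.1 he) hsub]
  · obtain ⟨σ₂, hs2, h2, hv2⟩ := exists_two_cycles hv _ _ le_rfl hR (sdiff_invariant hinv x)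
    have hB : (orb v x \ {x, v x}).Nonempty := by
      rw [← Finset.card_pos, Finset.card_sdiff]
      have : (({x, v x} : Finset α) ∩ orb v x).card ≤ 2 :=
        (Finset.card_le_card Finset.inter_subset_left).trans Finset.card_le_two
      omega
    obtain ⟨σ, hs, h, hvσ, heq⟩ := glue Finset.disjoint_sdiff
      (Finset.sdiff_subset (s := orb v x) (t := {x, v x})) M.supp hs2 M.cyc h2 M.prod hv2 hB hR
    rw [Finset.union_sdiff_of_subset hsub] at hs hvσ
    refine ⟨σ, x, v x, hs, hx, hsub M.b_mem, M.ne, ?_, ?_, ?_, hvσ⟩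
    · rw [heq x M.a_mem (by simp), M.fix_a]
    · rw [heq _ M.b_mem (by simp), M.fix_b]
    · have : orb v x \ {x, v x} ∪ (D \ orb v x) = D \ {x, v x} := by
        ext y
        have hsy : v.SameCycle x y → y ∈ D := fun h => hsub (mem_orb.2 h)
        have ha : y = x → v.SameCycle x y := fun h => h ▸ SameCycle.refl v x
        have hb : y = v x → v.SameCycle x y := fun h => h ▸ sameCycle_apply_self v x
        simp only [Finset.mem_union, Finset.mem_sdiff, Finset.mem_insert, Finset.mem_singleton,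
          mem_orb]
        tauto
      rwa [this] at h

end CfsgLib.AltGroups.CycleGlue

namespace CfsgLib.AltGroups.CycleGlue

open Equiv Equiv.Perm

variable {α : Type*} [Fintype α] [DecidableEq α]

/-- On a single cycle of length at least five there are two solutions, with products conjugate by
a transposition supported on the cycle. -/
theorem missing_pair (v : Perm α) (a : α) (hm : 5 ≤ (orb v a).card)
    (hodd : Odd (orb v a).card) :
    ∃ σ₁ σ₂ a₁ b₁ a₂ b₂ s, Missing v (orb v a) σ₁ a₁ b₁ ∧ Missing v (orb v a) σ₂ a₂ b₂ ∧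
      sign s = -1 ∧ v * σ₂ = s * (v * σ₁) * s⁻¹ ∧ ∀ z ∈ orb v a, s z ∈ orb v a := by
  have M := missing_consecutive v a (by omega) hodd
  set m := (orb v a).card with hmdef
  set σ₁ := swap a (v (v a)) * swap (v a) (v (v a)) * v.cycleOf a with hσ
  let p : ℕ → α := fun i => (v ^ i) a
  have hC := isCycleOn_orb v a
  have hpmem : ∀ i, p i ∈ orb v a := fun i => mem_orb.2 ⟨i, by simp [p]⟩
  have hp0 : p 0 = a := by simp [p]
  have hp1 : p 1 = v a := by simp [p]
  have hp2 : p 2 = v (v a) := by simp [p, sq]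
  have hpm : p m = a := (hC.pow_apply_eq (self_mem_orb v a)).2 dvd_rfl
  have hne : ∀ i j, i < m → j < m → i ≠ j → p i ≠ p j := by
    intro i j hi hj hij h
    exact hij (Nat.ModEq.eq_of_lt_of_lt ((hC.pow_apply_eq_pow_apply (self_mem_orb v a)).1 h) hi hj)
  have hsucc : ∀ i, v (p i) = p (i + 1) := fun i => by simp [p, pow_succ']
  obtain ⟨hcs, hcv⟩ := cycleOf_orb v a
  have hτ : ∀ i, σ₁ (p i) = swap (p 0) (p 2) (swap (p 1) (p 2) (p (i + 1))) := fun i => by
    rw [hσ, Perm.mul_apply, Perm.mul_apply, hcv _ (hpmem i), hsucc, hp0, hp1, hp2]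
  have si : ∀ i, 2 ≤ i → i + 1 < m → σ₁ (p i) = p (i + 1) := by
    intro i h2 hi
    rw [hτ, swap_apply_of_ne_of_ne (hne _ _ hi (by omega) (by omega))
      (hne _ _ hi (by omega) (by omega)), swap_apply_of_ne_of_ne (hne _ _ hi (by omega) (by omega))
      (hne _ _ hi (by omega) (by omega))]
  have slast : σ₁ (p (m - 1)) = p 2 := by
    rw [hτ, show m - 1 + 1 = m by omega, hpm, ← hp0,
      swap_apply_of_ne_of_ne (hne 0 1 (by omega) (by omega) (by omega))
      (hne 0 2 (by omega) (by omega) (by omega)), swap_apply_left]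
  set s := swap (p 2) (p 3) with hs
  set σ₂ := swap (p 1) (p 2) * σ₁ * s with hσ₂
  have hss : s⁻¹ = s := by rw [hs, swap_inv]
  have hne23 := hne 2 3 (by omega) (by omega) (by omega)
  have hconj : v * σ₂ = s * (v * σ₁) * s⁻¹ := by
    have : v * swap (p 1) (p 2) = s * v := by
      rw [hs, mul_swap_eq_swap_mul, hsucc, hsucc]
    rw [hσ₂, hss, ← mul_assoc, ← mul_assoc, this]
    simp only [mul_assoc]
  have hsmem : ∀ z ∈ orb v a, s z ∈ orb v a := by
    intro z hz
    rw [hs, swap_apply_def]
    split_ifs with h1 h2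
    · exact hpmem 3
    · exact hpmem 2
    · exact hz
  have hsupp : SuppIn σ₂ (orb v a) := by
    intro y hy
    have h' : ∀ i, y ≠ p i := fun i e => hy (e ▸ hpmem i)
    rw [hσ₂, Perm.mul_apply, Perm.mul_apply, hs, swap_apply_of_ne_of_ne (h' 2) (h' 3),
      M.supp y hy, swap_apply_of_ne_of_ne (h' 1) (h' 2)]
  have t0 : σ₂ (p 0) = p 0 := by
    rw [hσ₂, Perm.mul_apply, Perm.mul_apply, hs,
      swap_apply_of_ne_of_ne (hne 0 2 (by omega) (by omega) (by omega))
        (hne 0 3 (by omega) (by omega) (by omega)), hp0, M.fix_a, ← hp0,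
      swap_apply_of_ne_of_ne (hne 0 1 (by omega) (by omega) (by omega))
        (hne 0 2 (by omega) (by omega) (by omega))]
  have t3 : σ₂ (p 3) = p 3 := by
    rw [hσ₂, Perm.mul_apply, Perm.mul_apply, hs, swap_apply_right, si 2 le_rfl (by omega),
      swap_apply_of_ne_of_ne (hne 3 1 (by omega) (by omega) (by omega)) hne23.symm]
  have t1 : σ₂ (p 1) = p 2 := by
    rw [hσ₂, Perm.mul_apply, Perm.mul_apply, hs,
      swap_apply_of_ne_of_ne (hne 1 2 (by omega) (by omega) (by omega))
        (hne 1 3 (by omega) (by omega) (by omega)), hp1, M.fix_b, ← hp1, swap_apply_left]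
  have t2 : σ₂ (p 2) = p 4 := by
    rw [hσ₂, Perm.mul_apply, Perm.mul_apply, hs, swap_apply_left, si 3 (by omega) (by omega),
      swap_apply_of_ne_of_ne (hne 4 1 (by omega) (by omega) (by omega))
        (hne 4 2 (by omega) (by omega) (by omega))]
  have ti : ∀ i, 4 ≤ i → i + 1 < m → σ₂ (p i) = p (i + 1) := by
    intro i h4 hi
    rw [hσ₂, Perm.mul_apply, Perm.mul_apply, hs,
      swap_apply_of_ne_of_ne (hne i 2 (by omega) (by omega) (by omega))
        (hne i 3 (by omega) (by omega) (by omega)), si i (by omega) hi,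
      swap_apply_of_ne_of_ne (hne _ _ hi (by omega) (by omega))
        (hne _ _ hi (by omega) (by omega))]
  refine ⟨σ₁, σ₂, a, v a, p 0, p 3, s, M, ⟨hsupp, hpmem 0, hpmem 3,
    hne 0 3 (by omega) (by omega) (by omega), t0, t3, ?_, ?_⟩, sign_swap hne23, hconj, hsmem⟩
  · refine isCycleOn_mk (p 1) ?_ ?_
    · intro y hy
      simp only [Finset.mem_sdiff, Finset.mem_insert, Finset.mem_singleton, not_or] at hy ⊢
      refine ⟨hsupp.maps hy.1, fun e => hy.2.1 ?_, fun e => hy.2.2 ?_⟩
      · exact σ₂.injective (e.trans t0.symm)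
      · exact σ₂.injective (e.trans t3.symm)
    · intro y hy
      simp only [Finset.mem_sdiff, Finset.mem_insert, Finset.mem_singleton, not_or] at hy
      obtain ⟨i, hi, hi'⟩ := hC.exists_pow_eq (by simpa using self_mem_orb v a) (by simpa using hy.1)
      rw [← hmdef] at hi
      have e : p i = y := hi'
      have e1 : σ₂.SameCycle (p 1) (p 2) := by
        have := sameCycle_apply_self σ₂ (p 1); rwa [t1] at this
      have e2 : σ₂.SameCycle (p 2) (p 4) := by
        have := sameCycle_apply_self σ₂ (p 2); rwa [t2] at this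
      have big : ∀ j, 4 ≤ j → j < m → σ₂.SameCycle (p 1) (p j) := by
        intro j hj
        induction j, hj using Nat.le_induction with
        | base => intro _; exact e1.trans e2
        | succ j hj ih =>
          intro hlt
          have := sameCycle_apply_self σ₂ (p j)
          rw [ti j hj hlt] at this
          exact (ih (by omega)).trans this
      rw [← e] at hy ⊢
      by_cases h4 : 4 ≤ i
      · exact big i h4 hi
      · interval_cases i
        · exact absurd rfl hy.2.1
        · exact SameCycle.refl _ _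
        · exact e1
        · exact absurd rfl hy.2.2
  · rw [hconj]
    have := M.prod.conj (g := s)
    rwa [show (s : Perm α) '' (orb v a : Set α) = (orb v a : Set α) from ?_] at this
    ext z
    constructor
    · rintro ⟨w, hw, rfl⟩; exact hsmem w hw
    · intro hz; exact ⟨s z, hsmem z hz, by simp [hs]⟩

end CfsgLib.AltGroups.CycleGlue
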