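import Mathlib

/-!
The centraliser of an irreducible endomorphism of a finite abelian group is a field of the same
cardinality, of which the group is a one-dimensional vector space.
-/

set_option autoImplicit false
set_option linter.style.haveILetI false

namespace CfsgLib.AltGroups

variable {A : Type*} [AddCommGroup A] [Finite A]

/-- An endomorphism whose invariant subgroups are trivial. -/
def IrredEnd (φ : AddMonoid.End A) : Prop :=
  ∀ W : AddSubgroup A, (∀ w ∈ W, φ w ∈ W) → W = ⊥ ∨ W = ⊤

/-- A non-zero endomorphism commuting with an irreducible one is injective. -/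
theorem IrredEnd.injective {φ : AddMonoid.End A} (hφ : IrredEnd φ) {k : AddMonoid.End A}
    (hk : φ * k = k * φ) (hk0 : k ≠ 0) : Function.Injective k := by
  have hinv : ∀ w ∈ AddMonoidHom.ker k, φ w ∈ AddMonoidHom.ker k := by
    intro w hw
    change k w = 0 at hw
    show k (φ w) = 0
    have := DFunLike.congr_fun hk w
    change φ (k w) = k (φ w) at this
    rw [← this, hw, map_zero]
  rcases hφ (AddMonoidHom.ker k) hinv with h | h
  · exact (AddMonoidHom.ker_eq_bot_iff k).mp h
  · exfalso
    refine hk0 (AddMonoidHom.ext fun w => ?_)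
    have : w ∈ AddMonoidHom.ker k := by rw [h]; trivial
    exact this

/-- Evaluation at a non-zero point identifies the centraliser with the group. -/
theorem IrredEnd.eval_bijective {φ : AddMonoid.End A} (hφ : IrredEnd φ) {a : A} (ha : a ≠ 0) :
    Function.Bijective fun k : Subring.centralizer ({φ} : Set (AddMonoid.End A)) => (k : AddMonoid.End A) a := by
  have hcomm : ∀ k : Subring.centralizer ({φ} : Set (AddMonoid.End A)), φ * k.1 = k.1 * φ :=
    fun k => Subring.mem_centralizer_iff.mp k.2 φ rfl
  refine ⟨fun k k' h => Subtype.ext ?_, fun b => ?_⟩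
  · by_contra hne
    have h1 : φ * (k.1 - k'.1) = (k.1 - k'.1) * φ := by rw [mul_sub, sub_mul, hcomm, hcomm]
    have h2 := hφ.injective h1 (sub_ne_zero.mpr hne)
    refine ha (h2 ?_)
    rw [map_zero]
    show k.1 a - k'.1 a = 0
    exact sub_eq_zero.mpr h
  · let ev : Subring.centralizer ({φ} : Set (AddMonoid.End A)) →+ A :=
      { toFun := fun k => (k : AddMonoid.End A) a
        map_zero' := rfl
        map_add' := fun k k' => rfl }
    have htop : ev.range = ⊤ := by
      have hinv : ∀ w ∈ ev.range, φ w ∈ ev.range := by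
        intro w hw
        obtain ⟨k, rfl⟩ := hw
        exact ⟨⟨φ, Subring.mem_centralizer_iff.mpr fun g hg => by rw [Set.mem_singleton_iff.mp hg]⟩ * k, rfl⟩
      rcases hφ ev.range hinv with h | h
      · exfalso
        refine ha ?_
        have : ev 1 ∈ ev.range := ⟨1, rfl⟩
        rw [h, AddSubgroup.mem_bot] at this
        exact this
      · exact h
    have hb : b ∈ ev.range := by rw [htop]; trivial
    exact hb

theorem IrredEnd.isDomain {φ : AddMonoid.End A} [Nontrivial A] (hφ : IrredEnd φ) :
    IsDomain (Subring.centralizer ({φ} : Set (AddMonoid.End A))) := by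
  obtain ⟨a, ha⟩ := exists_ne (0 : A)
  haveI : NoZeroDivisors (Subring.centralizer ({φ} : Set (AddMonoid.End A))) := by
    refine ⟨fun {k l} h => or_iff_not_imp_left.mpr fun hk => Subtype.ext (AddMonoidHom.ext fun w => ?_)⟩
    have h1 := hφ.injective (Subring.mem_centralizer_iff.mp k.2 φ rfl) (fun e => hk (Subtype.ext e))
    apply h1
    show (k.1 * l.1) w = k.1 0
    rw [map_zero, show k.1 * l.1 = 0 from congrArg Subtype.val h]
    rfl
  haveI : Nontrivial (Subring.centralizer ({φ} : Set (AddMonoid.End A))) :=
    ⟨0, 1, fun h => ha (DFunLike.congr_fun (congrArg Subtype.val h) a).symm⟩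
  exact NoZeroDivisors.to_isDomain _

/-- The centraliser of an irreducible endomorphism is commutative. -/
theorem IrredEnd.comm [Nontrivial A] {φ : AddMonoid.End A} (hφ : IrredEnd φ) {k l : AddMonoid.End A}
    (hk : φ * k = k * φ) (hl : φ * l = l * φ) : k * l = l * k := by
  haveI := hφ.isDomain
  haveI : Finite (AddMonoid.End A) := Finite.of_injective (fun f => (f : A → A)) DFunLike.coe_injective
  have hF := Finite.isDomain_to_isField (Subring.centralizer ({φ} : Set (AddMonoid.End A)))
  exact congrArg Subtype.val (hF.mul_comm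
    ⟨k, Subring.mem_centralizer_iff.mpr fun g hg => by rw [Set.mem_singleton_iff.mp hg, hk]⟩
    ⟨l, Subring.mem_centralizer_iff.mpr fun g hg => by rw [Set.mem_singleton_iff.mp hg, hl]⟩)

/-- A group of automorphisms commuting with an irreducible endomorphism is cyclic. -/
theorem IrredEnd.isCyclic [Nontrivial A] {φ : AddMonoid.End A} (hφ : IrredEnd φ) {C : Type*} [Group C]
    [Finite C] (c : C →* AddMonoid.End A) (hc : Function.Injective c) (hcomm : ∀ g, φ * c g = c g * φ) :
    IsCyclic C := by
  haveI := hφ.isDomain
  haveI : Finite (AddMonoid.End A) := Finite.of_injective (fun f => (f : A → A)) DFunLike.coe_injective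
  have hF := Finite.isDomain_to_isField (Subring.centralizer ({φ} : Set (AddMonoid.End A)))
  letI := hF.toField
  refine isCyclic_of_injective_ringHom (R := Subring.centralizer ({φ} : Set (AddMonoid.End A)))
    { toFun := fun g => ⟨c g, Subring.mem_centralizer_iff.mpr fun ψ hψ => by rw [Set.mem_singleton_iff.mp hψ, hcomm]⟩
      map_one' := Subtype.ext (map_one c)
      map_mul' := fun g g' => Subtype.ext (map_mul c g g') }
    fun g g' h => hc (congrArg Subtype.val h)

/-- A semilinear structure: the normaliser of the centraliser field consists of semilinear maps. -/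
theorem IrredEnd.exists_semilinear [Nontrivial A] {φ : AddMonoid.End A} (hφ : IrredEnd φ) {F : Type*}
    [Field F] [Fintype F] (hF : Fintype.card F = Nat.card A) :
    ∃ e : F ≃+ A, ∀ (h : AddMonoid.End A), Function.Bijective h → ∀ ψ : AddMonoid.End A, IrredEnd ψ →
      φ * ψ = ψ * φ → h * φ = ψ * h →
      ∃ (c : F) (σ : F ≃+* F), c ≠ 0 ∧ ∀ t, h (e t) = e (c * σ t) := by
  classical
  obtain ⟨a, ha⟩ := exists_ne (0 : A)
  haveI := hφ.isDomain
  haveI : Finite (AddMonoid.End A) := Finite.of_injective (fun f => (f : A → A)) DFunLike.coe_injective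
  set K := Subring.centralizer ({φ} : Set (AddMonoid.End A)) with hK
  have hFld := Finite.isDomain_to_isField K
  letI := hFld.toField
  letI : Fintype K := Fintype.ofFinite _
  have hev := hφ.eval_bijective ha
  have hKc : Fintype.card F = Fintype.card K := by
    rw [hF, ← Nat.card_eq_fintype_card]
    exact (Nat.card_eq_of_bijective _ hev).symm
  let i : F ≃+* K := FiniteField.ringEquivOfCardEq hKc
  let ev : K ≃+ A := AddEquiv.ofBijective
    ({ toFun := fun k => (k : AddMonoid.End A) a, map_zero' := rfl, map_add' := fun k k' => rfl } : K →+ A) hev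
  refine ⟨i.toAddEquiv.trans ev, fun h hh ψ hψ hφψ hhφ => ?_⟩
  -- conjugation by `h` preserves `K`
  have hψK : Subring.centralizer ({ψ} : Set (AddMonoid.End A)) = K := by
    refine le_antisymm (fun k hk => ?_) (fun k hk => ?_)
    · refine Subring.mem_centralizer_iff.mpr fun g hg => ?_
      rw [Set.mem_singleton_iff.mp hg]
      exact (hψ.comm hφψ.symm (Subring.mem_centralizer_iff.mp hk ψ rfl)).trans rfl
    · refine Subring.mem_centralizer_iff.mpr fun g hg => ?_
      rw [Set.mem_singleton_iff.mp hg]
      exact hφ.comm hφψ (Subring.mem_centralizer_iff.mp hk φ rfl)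
  let hE : A ≃+ A := AddEquiv.ofBijective (h : A →+ A) hh
  let h' : AddMonoid.End A := hE.symm.toAddMonoidHom
  have hh'1 : h * h' = 1 := AddMonoidHom.ext fun w => hE.apply_symm_apply w
  have hh'2 : h' * h = 1 := AddMonoidHom.ext fun w => hE.symm_apply_apply w
  have hmem : ∀ k : K, h * k.1 * h' ∈ K := by
    intro k
    suffices hs : h * k.1 * h' ∈ Subring.centralizer ({ψ} : Set (AddMonoid.End A)) from le_of_eq hψK hs
    refine Subring.mem_centralizer_iff.mpr fun g hg => ?_
    rw [Set.mem_singleton_iff.mp hg]
    have e1 : ψ = h * φ * h' := by rw [hhφ, mul_assoc, hh'1, mul_one]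
    rw [e1]
    calc h * φ * h' * (h * k.1 * h') = h * φ * (h' * h) * k.1 * h' := by simp only [mul_assoc]
      _ = h * (φ * k.1) * h' := by rw [hh'2, mul_one, mul_assoc h φ]
      _ = h * (k.1 * φ) * h' := by rw [Subring.mem_centralizer_iff.mp k.2 φ rfl]
      _ = h * k.1 * (h' * h) * φ * h' := by rw [hh'2, mul_one, mul_assoc h k.1]
      _ = _ := by simp only [mul_assoc]
  let f : K →+* K :=
    { toFun := fun k => ⟨h * k.1 * h', hmem k⟩
      map_one' := Subtype.ext (by show h * 1 * h' = 1; rw [mul_one, hh'1])
      map_zero' := Subtype.ext (by show h * 0 * h' = 0; rw [mul_zero, zero_mul])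
      map_add' := fun k l => Subtype.ext (by
        show h * (k.1 + l.1) * h' = h * k.1 * h' + h * l.1 * h'
        rw [mul_add, add_mul])
      map_mul' := fun k l => Subtype.ext (by
        show h * (k.1 * l.1) * h' = h * k.1 * h' * (h * l.1 * h')
        rw [show h * k.1 * h' * (h * l.1 * h') = h * k.1 * (h' * h) * l.1 * h' by simp only [mul_assoc], hh'2,
          mul_one, mul_assoc h k.1]) }
  let σK : K ≃+* K := RingEquiv.ofBijective f (Finite.injective_iff_bijective.mp f.injective)
  let c : K := ev.symm (h a)
  have hc : (c : AddMonoid.End A) a = h a := ev.apply_symm_apply (h a)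
  refine ⟨i.symm c, (i.trans σK).trans i.symm, fun e0 => ?_, fun t => ?_⟩
  · rw [EmbeddingLike.map_eq_zero_iff] at e0
    rw [e0] at hc
    exact ha (hh.1 (hc.symm.trans (map_zero h).symm))
  · show h (ev (i t)) = ev (i (i.symm c * i.symm (σK (i t))))
    rw [map_mul, RingEquiv.apply_symm_apply, RingEquiv.apply_symm_apply, hFld.mul_comm]
    show h ((i t : AddMonoid.End A) a) = (h * (i t : AddMonoid.End A) * h') ((c : AddMonoid.End A) a)
    rw [hc]
    show h _ = h ((i t : AddMonoid.End A) ((h' * h) a))
    rw [hh'2]
    rfl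

end CfsgLib.AltGroups
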