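import Mathlib

/-!
Babai's elementary lower bound for the minimal degree of a primitive group: with `D x y` the number of
points distinguishing `x` and `y`, a primitive group that is not doubly transitive has `n ≤ 4 (D x y)²`,
and a doubly transitive group with an element moving fewer than about `√n` points contains a 3-cycle.
-/

set_option autoImplicit false
set_option linter.style.haveILetI false
set_option linter.unusedSectionVars false

open MulAction
open scoped Pointwise

namespace CfsgLib.AltGroups.MinimalDegree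

variable {G Ω : Type*} [Group G] [MulAction G Ω]

variable (G) in
/-- The points distinguishing `x` from `y`. -/
def distSet (x y : Ω) : Set Ω := {z | ∀ h : G, h • z = z → h • x ≠ y}

variable (G) in
/-- The number of points distinguishing `x` from `y`. -/
noncomputable def D (x y : Ω) : ℕ := (distSet G x y).ncard

theorem distSet_comm (x y : Ω) : distSet G x y = distSet G y x := by
  have : ∀ x y : Ω, distSet G x y ⊆ distSet G y x := fun x y z hz h hhz hhx =>
    hz h⁻¹ (inv_smul_eq_iff.mpr hhz.symm) (inv_smul_eq_iff.mpr hhx.symm)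
  exact Set.Subset.antisymm (this x y) (this y x)

theorem D_comm (x y : Ω) : D G x y = D G y x := by rw [D, D, distSet_comm]

theorem D_smul (g : G) (x y : Ω) : D G (g • x) (g • y) = D G x y := by
  have h : distSet G (g • x) (g • y) = g • distSet G x y := by
    ext z
    rw [Set.mem_smul_set_iff_inv_smul_mem]
    constructor
    · intro hz h hhz hhx
      refine hz (g * h * g⁻¹) ?_ ?_
      · rw [mul_smul, mul_smul, hhz, smul_inv_smul]
      · rw [mul_smul, mul_smul, inv_smul_smul, hhx]
    · intro hz h hhz hhx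
      refine hz (g⁻¹ * h * g) ?_ ?_
      · rw [mul_smul, mul_smul, smul_inv_smul, hhz]
      · rw [mul_smul, mul_smul, hhx, inv_smul_smul]
  rw [D, D, h, Set.ncard_smul_set]

theorem D_triangle [Finite Ω] (x y z : Ω) : D G x z ≤ D G x y + D G y z := by
  refine le_trans (Set.ncard_le_ncard ?_ (Set.toFinite _)) (Set.ncard_union_le _ _)
  intro w hw
  by_contra hcon
  simp only [Set.mem_union, not_or, distSet, Set.mem_setOf_eq, not_forall] at hcon
  obtain ⟨⟨h, hh, hhx⟩, ⟨h', hh', hh'y⟩⟩ := hcon
  exact hw (h' * h) (by rw [mul_smul, hh, hh'])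
    (by rw [mul_smul, not_not.mp hhx, not_not.mp hh'y])

theorem D_self (x : Ω) : D G x x = 0 := by
  rw [D, Set.ncard_eq_zero (hs := ?_)]
  · exact Set.eq_empty_iff_forall_notMem.mpr fun z hz => hz 1 (one_smul _ _) (one_smul _ _)
  · rw [show distSet G x x = ∅ from
      Set.eq_empty_iff_forall_notMem.mpr fun z hz => hz 1 (one_smul _ _) (one_smul _ _)]
    exact Set.finite_empty

/-- The graph of the pair `(a, b)`: the orbit of the unordered pair. -/
def graph (G : Type*) [Group G] {Ω : Type*} [MulAction G Ω] (a b : Ω) (hab : a ≠ b) : SimpleGraph Ω where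
  Adj u v := ∃ h : G, (h • a = u ∧ h • b = v) ∨ (h • a = v ∧ h • b = u)
  symm := ⟨fun _ _ ⟨h, hh⟩ => ⟨h, hh.symm⟩⟩
  loopless := ⟨fun u ⟨h, hh⟩ => hab (MulAction.injective h
    (hh.elim (fun e => e.1.trans e.2.symm) (fun e => e.1.trans e.2.symm)))⟩

variable {a b : Ω} {hab : a ≠ b}

theorem graph_adj_smul (g : G) {u v : Ω} (h : (graph G a b hab).Adj u v) :
    (graph G a b hab).Adj (g • u) (g • v) := by
  obtain ⟨h, hh⟩ := h
  refine ⟨g * h, hh.imp ?_ ?_⟩ <;> rintro ⟨h1, h2⟩ <;> exact ⟨by rw [mul_smul, h1], by rw [mul_smul, h2]⟩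

theorem D_of_adj {u v : Ω} (h : (graph G a b hab).Adj u v) : D G u v = D G a b := by
  obtain ⟨h, ⟨rfl, rfl⟩ | ⟨rfl, rfl⟩⟩ := h
  · exact D_smul h a b
  · rw [D_comm, D_smul]

theorem dist_smul (hc : (graph G a b hab).Connected) (g : G) (u v : Ω) :
    (graph G a b hab).dist (g • u) (g • v) = (graph G a b hab).dist u v := by
  have : ∀ (g : G) (u v : Ω), (graph G a b hab).dist (g • u) (g • v) ≤ (graph G a b hab).dist u v := by
    intro g u v
    obtain ⟨p, hp⟩ := hc.exists_walk_length_eq_dist u v
    let f : graph G a b hab →g graph G a b hab := ⟨fun w => g • w, fun {u v} h => graph_adj_smul g h⟩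
    exact (SimpleGraph.dist_le (p.map f)).trans_eq (by rw [SimpleGraph.Walk.length_map, hp])
  exact le_antisymm (this g u v) (by simpa using this g⁻¹ (g • u) (g • v))

/-- The graph of a pair is connected in a primitive group. -/
theorem graph_connected [IsPreprimitive G Ω] (hab : a ≠ b) : (graph G a b hab).Connected := by
  have hblock : IsBlock G {v | (graph G a b hab).Reachable a v} := by
    rw [MulAction.isBlock_iff_smul_eq_of_nonempty]
    intro g hne
    obtain ⟨_, ⟨w, hw, rfl⟩, hgw⟩ := hne
    have hmap : ∀ u v, (graph G a b hab).Reachable u v → (graph G a b hab).Reachable (g • u) (g • v) := by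
      intro u v ⟨p⟩
      exact ⟨p.map ⟨fun w => g • w, fun {u v} h => graph_adj_smul g h⟩⟩
    have hmap' : ∀ u v, (graph G a b hab).Reachable u v → (graph G a b hab).Reachable (g⁻¹ • u) (g⁻¹ • v) := by
      intro u v ⟨p⟩
      exact ⟨p.map ⟨fun w => g⁻¹ • w, fun {u v} h => graph_adj_smul g⁻¹ h⟩⟩
    ext v
    rw [Set.mem_smul_set_iff_inv_smul_mem]
    constructor
    · intro hv
      have h1 := hmap _ _ (hw.symm.trans hv)
      rw [smul_inv_smul] at h1
      exact hgw.trans h1
    · intro hv
      have h1 := hmap' _ _ (hgw.symm.trans hv)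
      rw [inv_smul_smul] at h1
      exact hw.trans h1
  rw [SimpleGraph.connected_iff_exists_forall_reachable]
  refine ⟨a, fun v => ?_⟩
  rcases IsPreprimitive.isTrivialBlock_of_isBlock hblock with hs | hu
  · exact absurd (hs (show (graph G a b hab).Reachable a a from .rfl)
      (show (graph G a b hab).Reachable a b from SimpleGraph.Adj.reachable ⟨1, Or.inl ⟨one_smul _ _, one_smul _ _⟩⟩))
      hab
  · exact Set.eq_univ_iff_forall.mp hu v

/-- A geodesic. -/
theorem exists_geodesic (hc : (graph G a b hab).Connected) (x y : Ω) :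
    ∃ f : ℕ → Ω, f 0 = x ∧ f ((graph G a b hab).dist x y) = y ∧
      (∀ i, i < (graph G a b hab).dist x y → (graph G a b hab).Adj (f i) (f (i + 1))) ∧
      ∀ i j, i ≤ j → j ≤ (graph G a b hab).dist x y → (graph G a b hab).dist (f i) (f j) = j - i := by
  obtain ⟨p, hp⟩ := hc.exists_walk_length_eq_dist x y
  have hadj : ∀ i, i < (graph G a b hab).dist x y → (graph G a b hab).Adj (p.getVert i) (p.getVert (i + 1)) :=
    fun i hi => p.adj_getVert_succ (hp ▸ hi)
  have hle : ∀ i j, i ≤ j → j ≤ (graph G a b hab).dist x y →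
      (graph G a b hab).dist (p.getVert i) (p.getVert j) ≤ j - i := by
    intro i j hij hj
    induction j, hij using Nat.le_induction with
    | base => simp
    | succ j hij ih =>
      have h1 := hc.dist_triangle (u := p.getVert i) (v := p.getVert j) (w := p.getVert (j + 1))
      have h2 : (graph G a b hab).dist (p.getVert j) (p.getVert (j + 1)) = 1 :=
        SimpleGraph.dist_eq_one_iff_adj.mpr (hadj j (by omega))
      have := ih (by omega)
      omega
  refine ⟨p.getVert, p.getVert_zero, by rw [← hp]; exact p.getVert_length, hadj, fun i j hij hj => ?_⟩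
  have h1 := hle 0 i (Nat.zero_le _) (by omega)
  have h2 := hle i j hij hj
  have h3 := hle j _ hj le_rfl
  have h4 := hc.dist_triangle (u := p.getVert 0) (v := p.getVert i) (w := p.getVert j)
  have h5 := hc.dist_triangle (u := p.getVert 0) (v := p.getVert j) (w := p.getVert ((graph G a b hab).dist x y))
  have hy : p.getVert ((graph G a b hab).dist x y) = y := by rw [← hp]; exact p.getVert_length
  rw [hy, p.getVert_zero] at h5
  rw [hy] at h3
  rw [p.getVert_zero] at h1 h4
  omega

/-- `D` is bounded along paths. -/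
theorem D_le_dist_mul [Finite Ω] (hc : (graph G a b hab).Connected) (x y : Ω) :
    D G x y ≤ (graph G a b hab).dist x y * D G a b := by
  obtain ⟨f, hf0, hfd, hadj, -⟩ := exists_geodesic hc x y
  have : ∀ j, j ≤ (graph G a b hab).dist x y → D G x (f j) ≤ j * D G a b := by
    intro j hj
    induction j with
    | zero => rw [hf0, D_self]; exact Nat.zero_le _
    | succ j ih =>
      have h1 := D_triangle (G := G) x (f j) (f (j + 1))
      rw [D_of_adj (hadj j (by omega))] at h1
      rw [Nat.succ_mul]
      exact h1.trans (Nat.add_le_add_right (ih (by omega)) _)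
  simpa [hfd] using this _ le_rfl

/-- Distances are distinguished by points. -/
theorem mem_distSet_of_dist_ne (hc : (graph G a b hab).Connected) {u v z : Ω}
    (h : (graph G a b hab).dist u z ≠ (graph G a b hab).dist v z) : z ∈ distSet G u v :=
  fun g hgz hgu => h (by conv_rhs => rw [← hgu, ← hgz, dist_smul hc])

/-- The distinguishing number of a pair is above every distance in its graph. -/
theorem dist_lt_D [Finite Ω] (hc : (graph G a b hab).Connected) {x y : Ω} (hxy : x ≠ y) :
    (graph G a b hab).dist x y < D G a b := by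
  obtain ⟨f, hf0, hfd, hadj, hdist⟩ := exists_geodesic hc x y
  have hpos : 0 < (graph G a b hab).dist x y := hc.pos_dist_of_ne hxy
  have hinj : Set.InjOn f (Set.Iic ((graph G a b hab).dist x y)) := by
    intro i hi j hj hij
    rcases le_total i j with h | h
    · have := hdist i j h hj
      rw [hij, SimpleGraph.dist_self] at this
      omega
    · have := hdist j i h hi
      rw [hij, SimpleGraph.dist_self] at this
      omega
  rw [← D_of_adj (hadj 0 hpos)]
  have hsub : f '' Set.Iic ((graph G a b hab).dist x y) ⊆ distSet G (f 0) (f 1) := by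
    rintro _ ⟨j, hj, rfl⟩
    refine mem_distSet_of_dist_ne hc ?_
    rw [hdist 0 j (Nat.zero_le _) hj]
    rcases Nat.eq_zero_or_pos j with rfl | hj0
    · rw [SimpleGraph.dist_comm, hdist 0 1 (Nat.zero_le _) (by omega)]
      omega
    · rw [hdist 1 j hj0 hj]
      omega
  have h1 := Set.ncard_le_ncard hsub (Set.toFinite _)
  rw [hinj.ncard_image] at h1
  have h2 : (Set.Iic ((graph G a b hab).dist x y)).ncard = (graph G a b hab).dist x y + 1 := by
    rw [← Finset.coe_Iic, Set.ncard_coe_finset, Nat.card_Iic]
  rw [h2] at h1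
  exact h1

/-- Some pair is distinguished by a quarter of the points unless a suborbit is very large. -/
theorem exists_large_D [Finite Ω] (x : Ω) (hsmall : ∀ z : Ω, 4 * (orbit (stabilizer G z) x).ncard ≤ 3 * Nat.card Ω) :
    ∃ y, Nat.card Ω ≤ 4 * D G x y := by
  classical
  haveI := Fintype.ofFinite Ω
  rw [Nat.card_eq_fintype_card] at hsmall ⊢
  have h1 : ∀ z : Ω, Fintype.card Ω ≤ 4 * (Finset.univ.filter fun y => z ∈ distSet G x y).card := by
    intro z
    have h2 : (Finset.univ.filter fun y => ¬ z ∈ distSet G x y) ⊆ (orbit (stabilizer G z) x).toFinset := by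
      intro y hy
      simp only [Finset.mem_filter, Finset.mem_univ, true_and, distSet, Set.mem_setOf_eq, not_forall,
        not_not] at hy
      obtain ⟨h, hh, hhx⟩ := hy
      exact Set.mem_toFinset.mpr ⟨⟨h, hh⟩, hhx⟩
    have h3 := Finset.card_le_card h2
    rw [Set.toFinset_card, ← Nat.card_eq_fintype_card, Nat.card_coe_set_eq] at h3
    have h4 := Finset.card_filter_add_card_filter_not (s := (Finset.univ : Finset Ω))
      (fun y => z ∈ distSet G x y)
    rw [Finset.card_univ] at h4
    have := hsmall z
    omega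
  by_contra hcon
  push Not at hcon
  have h5 : ∑ z : Ω, 4 * (Finset.univ.filter fun y => z ∈ distSet G x y).card = ∑ y : Ω, 4 * D G x y := by
    rw [← Finset.mul_sum, ← Finset.mul_sum]
    congr 1
    simp only [Finset.card_filter]
    rw [Finset.sum_comm]
    refine Finset.sum_congr rfl fun y _ => ?_
    rw [D, Set.ncard_eq_toFinset_card', ← Finset.card_filter]
    congr 1
    ext z
    simp
  have h6 : ∑ _z : Ω, Fintype.card Ω ≤ ∑ y : Ω, 4 * D G x y :=
    h5 ▸ Finset.sum_le_sum fun z _ => h1 z
  have h7 : ∑ y : Ω, 4 * D G x y < ∑ _y : Ω, Fintype.card Ω :=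
    Finset.sum_lt_sum_of_nonempty ⟨x, Finset.mem_univ x⟩ fun y _ => hcon y
  omega

/-- Babai's bound when all suborbits have at most three quarters of the points. -/
theorem bound_small_suborbits [Finite Ω] [IsPreprimitive G Ω] (hab : a ≠ b) (x : Ω)
    (hsmall : ∀ z : Ω, 4 * (orbit (stabilizer G z) x).ncard ≤ 3 * Nat.card Ω) :
    Nat.card Ω ≤ 4 * D G a b ^ 2 := by
  obtain ⟨y, hy⟩ := exists_large_D x hsmall
  have hc := graph_connected (G := G) hab
  rcases eq_or_ne x y with rfl | hxy
  · rw [D_self] at hy
    omega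
  · have h1 := D_le_dist_mul hc x y
    have h2 := dist_lt_D hc hxy
    rw [sq]
    calc Nat.card Ω ≤ 4 * D G x y := hy
      _ ≤ 4 * ((graph G a b hab).dist x y * D G a b) := Nat.mul_le_mul_left 4 h1
      _ ≤ _ := Nat.mul_le_mul_left 4 (Nat.mul_le_mul_right _ h2.le)

/-- Babai's bound with a suborbit of more than three quarters of the points. -/
theorem bound_large_suborbit [Finite Ω] [IsPreprimitive G Ω] (hab : a ≠ b)
    (x w : Ω) (hbig : 3 * Nat.card Ω < 4 * (orbit (stabilizer G x) w).ncard)
    (hn2 : ¬ IsMultiplyPretransitive G Ω 2) : Nat.card Ω ≤ 4 * D G a b ^ 2 := by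
  classical
  haveI := Fintype.ofFinite Ω
  rw [Nat.card_eq_fintype_card] at hbig ⊢
  let P : Ω → Ω → Prop := fun u v => ∃ h : G, h • x = u ∧ h • w = v
  have hwx : w ≠ x := by
    rintro rfl
    have : orbit (stabilizer G w) w = {w} := Set.eq_singleton_iff_unique_mem.mpr
      ⟨mem_orbit_self w, by rintro _ ⟨h, rfl⟩; exact h.2⟩
    rw [this, Set.ncard_singleton] at hbig
    haveI : Nonempty Ω := ⟨w⟩
    have h1 : 1 < Fintype.card Ω := Fintype.one_lt_card_iff.mpr ⟨a, b, hab⟩
    omega
  have hPne : ∀ {u v}, P u v → u ≠ v := by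
    rintro _ _ ⟨h, rfl, rfl⟩ e
    exact hwx (MulAction.injective h e).symm
  have hPinv : ∀ (g : G) {u v}, P u v → P (g • u) (g • v) := by
    rintro g _ _ ⟨h, rfl, rfl⟩
    exact ⟨g * h, mul_smul _ _ _, mul_smul _ _ _⟩
  set k := (orbit (stabilizer G x) w).ncard with hkdef
  have hPx : (Finset.univ.filter fun v => P x v).card = k := by
    rw [hkdef, Set.ncard_eq_toFinset_card']
    congr 1
    ext v
    simp only [Finset.mem_filter, Finset.mem_univ, true_and, Set.mem_toFinset]
    exact ⟨fun ⟨h, h1, h2⟩ => ⟨⟨h, h1⟩, h2⟩, fun ⟨h, h2⟩ => ⟨h, h.2, h2⟩⟩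
  have hPu : ∀ u, (Finset.univ.filter fun v => P u v).card = k := by
    intro u
    obtain ⟨g, rfl⟩ := exists_smul_eq G x u
    rw [← hPx]
    refine (Finset.card_bij (fun v _ => g • v) (fun v hv => ?_) (fun _ _ _ _ h => MulAction.injective g h)
      (fun v hv => ⟨g⁻¹ • v, ?_, smul_inv_smul g v⟩)).symm
    · simp only [Finset.mem_filter, Finset.mem_univ, true_and] at hv ⊢
      exact hPinv g hv
    · simp only [Finset.mem_filter, Finset.mem_univ, true_and] at hv ⊢
      simpa using hPinv g⁻¹ hv
  -- the big relation is symmetric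
  have hPsymm : ∀ {u v}, P u v → P v u := by
    have hkey : ∃ u v, P u v ∧ P v u := by
      by_contra hcon
      push Not at hcon
      have h1 : ∑ u : Ω, ((Finset.univ.filter fun v => P u v).card + (Finset.univ.filter fun v => P v u).card)
          ≤ ∑ _u : Ω, Fintype.card Ω := Finset.sum_le_sum fun u _ => by
        rw [← Finset.card_union_of_disjoint]
        · exact Finset.card_le_univ _
        · rw [Finset.disjoint_filter]
          exact fun v _ h => hcon u v h
      have h2 : ∑ u : Ω, (Finset.univ.filter fun v => P v u).card = ∑ u : Ω, (Finset.univ.filter fun v => P u v).card := by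
        simp only [Finset.card_filter]
        rw [Finset.sum_comm]
      rw [Finset.sum_add_distrib, h2] at h1
      simp only [hPu, Finset.sum_const, Finset.card_univ, smul_eq_mul] at h1
      rw [← mul_add] at h1
      have h3 := Nat.le_of_mul_le_mul_left h1 (Fintype.card_pos_iff.mpr ⟨x⟩)
      omega
    obtain ⟨_, _, ⟨h, rfl, rfl⟩, h'⟩ := hkey
    have h0 : P w x := by simpa using hPinv h⁻¹ h'
    rintro _ _ ⟨g, rfl, rfl⟩
    exact hPinv g h0
  let Q : Ω → Ω → Prop := fun u v => u ≠ v ∧ ¬ P u v
  have hQinv : ∀ (g : G) {u v}, Q u v → Q (g • u) (g • v) := fun g u v h =>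
    ⟨fun e => h.1 (MulAction.injective g e), fun hP => h.2 (by simpa using hPinv g⁻¹ hP)⟩
  have hQsymm : ∀ {u v}, Q u v → Q v u := fun h => ⟨h.1.symm, fun hP => h.2 (hPsymm hP)⟩
  let N : Ω → Finset Ω := fun u => Finset.univ.filter fun v => Q u v
  have hNmem : ∀ {u v}, v ∈ N u ↔ Q u v := by simp [N]
  have hN : ∀ u, (N u).card + k + 1 = Fintype.card Ω := by
    intro u
    have : (N u) ∪ (Finset.univ.filter fun v => P u v) = Finset.univ.erase u := by
      ext v
      simp only [Finset.mem_union, hNmem, Finset.mem_filter, Finset.mem_univ, true_and, Finset.mem_erase, and_true]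
      constructor
      · rintro (h | h)
        · exact h.1.symm
        · exact (hPne h).symm
      · intro h
        by_cases hP : P u v
        · exact Or.inr hP
        · exact Or.inl ⟨h.symm, hP⟩
    have h2 := congrArg Finset.card this
    rw [Finset.card_union_of_disjoint, hPu, Finset.card_erase_of_mem (Finset.mem_univ u), Finset.card_univ] at h2
    · have : 0 < Fintype.card Ω := Fintype.card_pos_iff.mpr ⟨u⟩
      omega
    · rw [Finset.disjoint_left]
      intro v hv hv'
      exact (hNmem.mp hv).2 (Finset.mem_filter.mp hv').2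
  set l := (N x).card with hldef
  have hNu : ∀ u, (N u).card = l := fun u => by have := hN u; have := hN x; omega
  have hl3 : 3 * l < k := by have := hN x; omega
  obtain ⟨v₁, hv₁⟩ : (N x).Nonempty := by
    rw [Finset.nonempty_iff_ne_empty]
    intro he
    refine hn2 ((is_two_pretransitive_iff).2 fun {p q r s} hpq hrs => ?_)
    have hP : ∀ {u v}, u ≠ v → P u v := fun {u v} huv => by
      by_contra hnP
      have hmem : v ∈ N u := hNmem.mpr ⟨huv, hnP⟩
      have : (N u).card = 0 := by rw [hNu u, hldef, he, Finset.card_empty]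
      rw [Finset.card_eq_zero] at this
      rw [this] at hmem
      exact Finset.notMem_empty v hmem
    obtain ⟨g, hg1, hg2⟩ := hP hpq
    obtain ⟨g', hg1', hg2'⟩ := hP hrs
    exact ⟨g' * g⁻¹, by rw [mul_smul, ← hg1, inv_smul_smul, hg1'], by rw [mul_smul, ← hg2, inv_smul_smul, hg2']⟩
  -- common `Q`-neighbours of a `P`-pair
  set μ := ((N x) ∩ (N w)).card with hμdef
  have hμ : ∀ {u v}, P u v → ((N u) ∩ (N v)).card = μ := by
    rintro _ _ ⟨g, rfl, rfl⟩
    refine (Finset.card_bij (fun v _ => g • v) (fun v hv => ?_) (fun _ _ _ _ h => MulAction.injective g h)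
      (fun v hv => ⟨g⁻¹ • v, ?_, smul_inv_smul g v⟩)).symm
    · simp only [Finset.mem_inter, hNmem] at hv ⊢
      exact ⟨hQinv g hv.1, hQinv g hv.2⟩
    · simp only [Finset.mem_inter, hNmem] at hv ⊢
      exact ⟨by simpa using hQinv g⁻¹ hv.1, by simpa using hQinv g⁻¹ hv.2⟩
  have hkμ : k * μ ≤ l * l := by
    have h1 : ∑ v ∈ Finset.univ.filter (fun v => P x v), ((N x) ∩ (N v)).card ≤ ∑ u ∈ N x, (N u).card := by
      have h2 : ∀ v, (N x) ∩ (N v) = (N x).filter fun u => v ∈ N u := fun v => by
        ext u
        simp only [Finset.mem_inter, Finset.mem_filter, hNmem]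
        exact ⟨fun h => ⟨h.1, hQsymm h.2⟩, fun h => ⟨h.1, hQsymm h.2⟩⟩
      simp only [h2, Finset.card_filter]
      rw [Finset.sum_comm]
      refine Finset.sum_le_sum fun u _ => ?_
      rw [← Finset.card_filter]
      exact Finset.card_le_card fun v hv => (Finset.mem_filter.mp hv).2
    rw [Finset.sum_congr rfl (fun v hv => hμ (Finset.mem_filter.mp hv).2)] at h1
    simp only [hNu, Finset.sum_const, smul_eq_mul, hPx] at h1
    exact h1
  have h3μ : 3 * μ ≤ l := by
    by_contra hlt
    have : l * l < k * μ := by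
      calc l * l ≤ l * (3 * μ) := Nat.mul_le_mul_left l (by omega)
        _ = (3 * l) * μ := by ring
        _ < k * μ := Nat.mul_lt_mul_of_pos_right hl3 (by omega)
    omega
  have hDP : ∀ {u v}, P u v → 4 * l ≤ 3 * D G u v := by
    intro u v huv
    have hsub : ((((N u) \ (N v)) ∪ ((N v) \ (N u)) : Finset Ω) : Set Ω) ⊆ distSet G u v := by
      intro z hz h hhz hhu
      simp only [Finset.coe_union, Set.mem_union, Finset.mem_coe, Finset.mem_sdiff, hNmem] at hz
      rcases hz with ⟨h1, h2⟩ | ⟨h1, h2⟩
      · exact h2 (by have := hQinv h h1; rwa [hhu, hhz] at this)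
      · refine h2 ?_
        have := hQinv h⁻¹ h1
        rwa [← hhu, inv_smul_smul, inv_smul_eq_iff.mpr hhz.symm] at this
    have h1 := Set.ncard_le_ncard hsub (Set.toFinite _)
    rw [Set.ncard_coe_finset, Finset.card_union_of_disjoint disjoint_sdiff_sdiff] at h1
    have h2 := Finset.card_inter_add_card_sdiff (N u) (N v)
    have h3 := Finset.card_inter_add_card_sdiff (N v) (N u)
    rw [Finset.inter_comm (N v), hμ huv, hNu v] at h3
    rw [hμ huv, hNu u] at h2
    unfold D
    omega
  have hl1 : 1 ≤ l := Finset.card_pos.mpr ⟨v₁, hv₁⟩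
  by_cases hPab : P a b
  · -- the pair itself is in the big relation
    have hc' := graph_connected (G := G) (hNmem.mp hv₁).1
    obtain ⟨f, hf0, hfd, hadj, -⟩ := exists_geodesic hc' x w
    have hQadj : ∀ {u v}, (graph G x v₁ (hNmem.mp hv₁).1).Adj u v → Q u v := by
      rintro _ _ ⟨h, ⟨rfl, rfl⟩ | ⟨rfl, rfl⟩⟩
      · exact hQinv h (hNmem.mp hv₁)
      · exact hQsymm (hQinv h (hNmem.mp hv₁))
    have hPxw : P x w := ⟨1, one_smul _ _, one_smul _ _⟩
    -- the first exit from `N x`
    have hex : ∃ j, ¬ (f j = x ∨ Q x (f j)) :=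
      ⟨_, by rw [hfd]; exact fun h => h.elim (fun e => hwx e) (fun e => e.2 hPxw)⟩
    have hj0 : Nat.find hex ≠ 0 := by
      intro e
      have := Nat.find_spec hex
      rw [e] at this
      exact this (Or.inl hf0)
    obtain ⟨i, hi⟩ := Nat.exists_eq_succ_of_ne_zero hj0
    have hid : i < (graph G x v₁ (hNmem.mp hv₁).1).dist x w := by
      have : Nat.find hex ≤ (graph G x v₁ (hNmem.mp hv₁).1).dist x w := Nat.find_le
        (by rw [hfd]; exact fun h => h.elim (fun e => hwx e) (fun e => e.2 hPxw))
      omega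
    have hnext := Nat.find_spec hex
    rw [hi] at hnext
    simp only [not_or] at hnext
    have hQi := hQadj (hadj i hid)
    have hμpos : 1 ≤ μ := by
      rcases not_not.mp (Nat.find_min hex (show i < Nat.find hex by omega)) with he | hQx
      · rw [he] at hQi
        exact absurd hQi hnext.2
      · have hPnext : P x (f (i + 1)) := by
          by_contra hnP
          exact hnext.2 ⟨fun e => hnext.1 e.symm, hnP⟩
        rw [← hμ hPnext]
        exact Finset.card_pos.mpr ⟨f i, Finset.mem_inter.mpr ⟨hNmem.mpr hQx, hNmem.mpr (hQsymm hQi)⟩⟩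
    have h1 := hDP hPab
    have hkl : k ≤ l * l := le_trans (by
      calc k = k * 1 := (mul_one k).symm
        _ ≤ k * μ := Nat.mul_le_mul_left k hμpos) hkμ
    nlinarith
  · -- a pair outside the big relation
    have hc := graph_connected (G := G) hab
    have hQadj : ∀ {u v}, (graph G a b hab).Adj u v → Q u v := by
      rintro _ _ ⟨h, ⟨rfl, rfl⟩ | ⟨rfl, rfl⟩⟩
      · exact hQinv h ⟨hab, hPab⟩
      · exact hQsymm (hQinv h ⟨hab, hPab⟩)
    set r := (graph G a b hab).dist x w with hr
    have hrP : ∀ {u v}, P u v → (graph G a b hab).dist u v = r := by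
      rintro _ _ ⟨g, rfl, rfl⟩
      exact dist_smul hc g x w
    have hPxw : P x w := ⟨1, one_smul _ _, one_smul _ _⟩
    have hr2 : 2 ≤ r := by
      have h0 : 0 < r := hc.pos_dist_of_ne (hPne hPxw)
      have h1 : r ≠ 1 := fun h1 => (hQadj (SimpleGraph.dist_eq_one_iff_adj.mp h1)).2 hPxw
      omega
    -- neighbours
    let S : Ω → Finset Ω := fun u => Finset.univ.filter fun v => (graph G a b hab).Adj u v
    have hSmem : ∀ {u v}, v ∈ S u ↔ (graph G a b hab).Adj u v := by simp [S]
    set e := (S x).card with hedef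
    have hSu : ∀ u, (S u).card = e := by
      intro u
      obtain ⟨g, rfl⟩ := exists_smul_eq G x u
      refine (Finset.card_bij (fun v _ => g • v) (fun v hv => hSmem.mpr (graph_adj_smul g (hSmem.mp hv)))
        (fun _ _ _ _ h => MulAction.injective g h)
        (fun v hv => ⟨g⁻¹ • v, hSmem.mpr ?_, smul_inv_smul g v⟩)).symm
      simpa using graph_adj_smul g⁻¹ (hSmem.mp hv)
    have hel : e ≤ l := by
      rw [hedef, hldef]
      exact Finset.card_le_card fun v hv => hNmem.mpr (hQadj (hSmem.mp hv))
    -- the first steps towards the points related to `x`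
    have hke : k ≤ e * D G a b := by
      rw [← hPx]
      have hcov : (Finset.univ.filter fun z => P x z) ⊆
          (S x).biUnion fun u => (distSet G x u).toFinset := by
        intro z hz
        have hPz : P x z := (Finset.mem_filter.mp hz).2
        obtain ⟨f, hf0, hfd, hadj, hdist⟩ := exists_geodesic hc x z
        have hrz := hrP hPz
        have hd1 := hdist 1 _ (by omega) le_rfl
        rw [hfd] at hd1
        refine Finset.mem_biUnion.mpr ⟨f 1, hSmem.mpr ?_, Set.mem_toFinset.mpr (mem_distSet_of_dist_ne hc ?_)⟩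
        · have := hadj 0 (by omega)
          rwa [hf0] at this
        · omega
      refine (Finset.card_le_card hcov).trans (Finset.card_biUnion_le.trans ?_)
      rw [hedef, Finset.card_eq_sum_ones (S x), Finset.sum_mul]
      refine Finset.sum_le_sum fun u hu => ?_
      rw [one_mul, ← Set.ncard_eq_toFinset_card']
      exact (D_of_adj (hSmem.mp hu)).le
    -- disjoint balls along a geodesic
    have hball : r * (e + 1) ≤ 4 * (l + 1) := by
      obtain ⟨f, hf0, hfd, hadj, hdist⟩ := exists_geodesic hc x w
      set m := (r - 2) / 3 + 1 with hm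
      let B : ℕ → Finset Ω := fun j => insert (f (3 * j)) (S (f (3 * j)))
      have hBdist : ∀ j z, z ∈ B j → (graph G a b hab).dist (f (3 * j)) z ≤ 1 := by
        intro j z hz
        rcases Finset.mem_insert.mp hz with rfl | hz
        · rw [SimpleGraph.dist_self]; exact Nat.zero_le _
        · exact (SimpleGraph.dist_eq_one_iff_adj.mpr (hSmem.mp hz)).le
      have hBcard : ∀ j, (B j).card = e + 1 := fun j => by
        rw [Finset.card_insert_of_notMem, hSu]
        exact fun h => (hSmem.mp h).ne rfl
      have hsub : (Finset.range m).biUnion B ⊆ insert x (N x) := by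
        intro z hz
        obtain ⟨j, hj, hzj⟩ := Finset.mem_biUnion.mp hz
        rw [Finset.mem_range] at hj
        have h1 := hBdist j z hzj
        have h2 := hdist 0 (3 * j) (Nat.zero_le _) (by omega)
        rw [hf0] at h2
        have h3 := hc.dist_triangle (u := x) (v := f (3 * j)) (w := z)
        by_contra hzn
        rw [Finset.mem_insert, not_or, hNmem] at hzn
        have hPz : P x z := by
          by_contra hnP
          exact hzn.2 ⟨Ne.symm hzn.1, hnP⟩
        have := hrP hPz
        omega
      have hdisj : ((Finset.range m : Finset ℕ) : Set ℕ).PairwiseDisjoint B := by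
        intro i hi j hj hij
        rw [Function.onFun, Finset.disjoint_left]
        intro z hzi hzj
        simp only [Finset.coe_range, Set.mem_Iio] at hi hj
        have h1 := hBdist i z hzi
        have h2 := hBdist j z hzj
        have h3 := hc.dist_triangle (u := f (3 * i)) (v := z) (w := f (3 * j))
        rw [SimpleGraph.dist_comm (u := z)] at h3
        rcases Nat.lt_or_gt_of_ne hij with hlt | hlt
        · have := hdist (3 * i) (3 * j) (by omega) (by omega)
          omega
        · have := hdist (3 * j) (3 * i) (by omega) (by omega)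
          rw [SimpleGraph.dist_comm] at this
          omega
      have h4 := Finset.card_le_card hsub
      rw [Finset.card_biUnion hdisj, Finset.card_insert_of_notMem (fun h => (hNmem.mp h).1 rfl), ← hldef] at h4
      simp only [hBcard, Finset.sum_const, Finset.card_range, smul_eq_mul] at h4
      calc r * (e + 1) ≤ (4 * m) * (e + 1) := Nat.mul_le_mul_right _ (by omega)
        _ = 4 * (m * (e + 1)) := by ring
        _ ≤ _ := Nat.mul_le_mul_left 4 h4
    have h1 : 4 * l ≤ 3 * (r * D G a b) :=
      (hDP hPxw).trans (Nat.mul_le_mul_left 3 (D_le_dist_mul hc x w))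
    have h2 : e ≤ 3 * D G a b := by
      by_contra hlt
      have h5 : 3 * (r * D G a b) * (e + 1) ≤ 12 * D G a b * (l + 1) := by
        calc 3 * (r * D G a b) * (e + 1) = 3 * D G a b * (r * (e + 1)) := by ring
          _ ≤ 3 * D G a b * (4 * (l + 1)) := Nat.mul_le_mul_left _ hball
          _ = _ := by ring
      have h6 := Nat.mul_le_mul_right (e + 1) h1
      nlinarith
    nlinarith

/-- Babai: a primitive group that is not doubly transitive has `n ≤ 4 (D a b)²`. -/
theorem card_le_four_D_sq [Finite Ω] [IsPreprimitive G Ω] (hn2 : ¬ IsMultiplyPretransitive G Ω 2)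
    {a b : Ω} (hab : a ≠ b) : Nat.card Ω ≤ 4 * D G a b ^ 2 := by
  by_cases hsmall : ∀ z : Ω, 4 * (orbit (stabilizer G z) a).ncard ≤ 3 * Nat.card Ω
  · exact bound_small_suborbits hab a hsmall
  · push Not at hsmall
    obtain ⟨z, hz⟩ := hsmall
    exact bound_large_suborbit hab z a hz hn2

open Equiv in
/-- Two permutations whose supports meet in one point have a 3-cycle as commutator. -/
theorem isThreeCycle_commutator [Fintype Ω] [DecidableEq Ω] (g g' : Perm Ω) (a : Ω) (hg : g a ≠ a) (hg' : g' a ≠ a)
    (h1 : ∀ z, g z ≠ z → g' z ≠ z → z = a) : Perm.IsThreeCycle (g * g' * g⁻¹ * g'⁻¹) := by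
  have hfix' : ∀ z, g z ≠ z → z ≠ a → g' z = z := fun z hz hne => by
    by_contra h; exact hne (h1 z hz h)
  have hfix : ∀ z, g' z ≠ z → z ≠ a → g z = z := fun z hz hne => by
    by_contra h; exact hne (h1 z h hz)
  have hbm : g (g a) ≠ g a := fun h => hg (g.injective h)
  have hcm : g' (g' a) ≠ g' a := fun h => hg' (g'.injective h)
  have hb' : g' (g a) = g a := hfix' _ hbm hg
  have hc : g (g' a) = g' a := hfix _ hcm hg'
  have hbc : g a ≠ g' a := fun h => hbm (by rw [h, hc])
  have hkey : g * g' * g⁻¹ * g'⁻¹ = swap (g a) a * swap (g a) (g' a) := by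
    refine Equiv.ext fun z => ?_
    simp only [Perm.mul_apply]
    by_cases hza : z = a
    · subst hza
      have hm : g' (g'⁻¹ z) ≠ g'⁻¹ z := fun h => by
        simp only [Perm.coe_inv, apply_symm_apply] at h
        exact hg' (by rw [h, apply_symm_apply]; exact h ▸ rfl)
      have hne : g'⁻¹ z ≠ z := fun h => hm (by rw [h]; exact (congrArg g' h).symm.trans (by simp))
      have hf : g⁻¹ (g'⁻¹ z) = g'⁻¹ z := Perm.inv_eq_iff_eq.mpr (hfix _ hm hne).symm
      rw [hf, Perm.coe_inv, apply_symm_apply, swap_apply_of_ne_of_ne (Ne.symm hg) (Ne.symm hg'),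
        swap_apply_right]
    by_cases hzb : z = g a
    · subst hzb
      rw [Perm.inv_eq_iff_eq.mpr hb'.symm, Perm.coe_inv, symm_apply_apply, hc, swap_apply_left,
        swap_apply_of_ne_of_ne hbc.symm hg']
    by_cases hzc : z = g' a
    · subst hzc
      have hm : g (g⁻¹ a) ≠ g⁻¹ a := fun h => by
        simp only [Perm.coe_inv, apply_symm_apply] at h
        exact hg (by rw [h, apply_symm_apply]; exact h ▸ rfl)
      have hne : g⁻¹ a ≠ a := fun h => hm (by rw [h]; exact (congrArg g h).symm.trans (by simp))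
      rw [show g'⁻¹ (g' a) = a by simp, hfix' _ hm hne]
      simp
    · rw [swap_apply_of_ne_of_ne hzb hzc, swap_apply_of_ne_of_ne hzb hza]
      by_cases hz' : g' z = z
      · rw [Perm.inv_eq_iff_eq.mpr hz'.symm]
        have hw : g' (g⁻¹ z) = g⁻¹ z := by
          by_cases hgz : g z = z
          · rw [Perm.inv_eq_iff_eq.mpr hgz.symm, hz']
          · refine hfix' _ (fun h => hgz ?_) (fun h => hzb ?_)
            · simp only [Perm.coe_inv, apply_symm_apply] at h
              conv_lhs => rw [h]
              simp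
            · rw [← h]; simp
        rw [hw]
        simp
      · have hw : g' (g'⁻¹ z) ≠ g'⁻¹ z := fun h => hz' (by
          simp only [Perm.coe_inv, apply_symm_apply] at h
          conv_lhs => rw [h]
          simp)
        have hwa : g'⁻¹ z ≠ a := fun h => hzc (by rw [← h]; simp)
        rw [Perm.inv_eq_iff_eq.mpr (hfix _ hw hwa).symm, Perm.coe_inv, apply_symm_apply, hfix z hz' hza]
  rw [hkey]
  exact Perm.isThreeCycle_swap_mul_swap_same hg hbc (Ne.symm hg')

/-- A doubly transitive group with a small non-trivial support contains the alternating group. -/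
theorem alternating_le_of_two_transitive [Finite G] [Fintype Ω] [DecidableEq Ω]
    (h2 : IsMultiplyPretransitive G Ω 2) (g : G) (a : Ω) (ha : g • a ≠ a)
    (hsmall : (fixedBy Ω g)ᶜ.ncard ^ 2 < Fintype.card Ω - 1) :
    alternatingGroup Ω ≤ (MulAction.toPermHom G Ω).range := by
  classical
  haveI := Fintype.ofFinite G
  let S := Finset.univ.filter fun z : Ω => g • z ≠ z ∧ z ≠ a
  have hS : S.card ≤ (fixedBy Ω g)ᶜ.ncard := by
    rw [← Set.ncard_coe_finset]
    refine Set.ncard_le_ncard (fun z hz => ?_) (Set.toFinite _)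
    simp only [S, Finset.coe_filter, Finset.mem_univ, true_and, Set.mem_setOf_eq] at hz
    exact hz.1
  obtain ⟨h, hha, hh⟩ : ∃ h : G, h • a = a ∧ ∀ s ∈ S, h • s ∉ S := by
    by_contra hcon
    push Not at hcon
    let A := Finset.univ.filter fun h : G => h • a = a
    let T : Ω → Ω → Finset G := fun s t => A.filter fun h => h • s = t
    have h2' : ∀ {p q r s : Ω}, p ≠ q → r ≠ s → ∃ k : G, k • p = r ∧ k • q = s :=
      (is_two_pretransitive_iff).1 h2
    have hT : ∀ s ∈ S, ∀ t, (Fintype.card Ω - 1) * (T s t).card ≤ A.card := by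
      intro s hs t
      have hsa : s ≠ a := (Finset.mem_filter.mp hs).2.2
      have hle : ∀ u ∈ Finset.univ.erase a, (T s t).card ≤ (T s u).card := by
        intro u hu
        by_cases hne : (T s t).Nonempty
        · obtain ⟨h₀, hh₀⟩ := hne
          simp only [T, A, Finset.mem_filter, Finset.mem_univ, true_and] at hh₀
          have hta : t ≠ a := fun e => hsa (MulAction.injective h₀ ((hh₀.2.trans e).trans hh₀.1.symm))
          obtain ⟨k, hk1, hk2⟩ := h2' (Ne.symm hta) (Ne.symm (Finset.ne_of_mem_erase hu))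
          refine Finset.card_le_card_of_injOn (fun h => k * h) (fun h hh => ?_)
            (fun _ _ _ _ e => mul_left_cancel e)
          simp only [T, A, Finset.coe_filter, Finset.mem_filter, Finset.mem_univ, true_and,
            Set.mem_setOf_eq] at hh ⊢
          exact ⟨by rw [mul_smul, hh.1, hk1], by rw [mul_smul, hh.2, hk2]⟩
        · rw [Finset.not_nonempty_iff_eq_empty.mp hne, Finset.card_empty]; exact Nat.zero_le _
      have h1 := Finset.sum_le_sum hle
      rw [Finset.sum_const, Finset.card_erase_of_mem (Finset.mem_univ a), Finset.card_univ, smul_eq_mul] at h1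
      refine h1.trans ?_
      rw [← Finset.card_biUnion]
      · exact Finset.card_le_card (Finset.biUnion_subset.mpr fun u _ => Finset.filter_subset _ _)
      · intro u _ v _ huv
        rw [Function.onFun, Finset.disjoint_left]
        intro h hh hh'
        exact huv ((Finset.mem_filter.mp hh).2.symm.trans (Finset.mem_filter.mp hh').2)
    have hA : A.card ≤ ∑ s ∈ S, ∑ t ∈ S, (T s t).card := by
      refine le_trans ?_ (Finset.sum_le_sum fun s _ => Finset.card_biUnion_le)
      refine le_trans (Finset.card_le_card ?_) Finset.card_biUnion_le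
      intro h hh
      obtain ⟨s, hs, hhs⟩ := hcon h (Finset.mem_filter.mp hh).2
      exact Finset.mem_biUnion.mpr ⟨s, hs, Finset.mem_biUnion.mpr ⟨h • s, hhs, Finset.mem_filter.mpr ⟨hh, rfl⟩⟩⟩
    have hA1 : 0 < A.card := Finset.card_pos.mpr ⟨1, by simp [A]⟩
    have h3 : (Fintype.card Ω - 1) * A.card ≤ S.card * S.card * A.card := by
      calc (Fintype.card Ω - 1) * A.card ≤ (Fintype.card Ω - 1) * ∑ s ∈ S, ∑ t ∈ S, (T s t).card :=
            Nat.mul_le_mul_left _ hA
        _ = ∑ s ∈ S, ∑ t ∈ S, (Fintype.card Ω - 1) * (T s t).card := by simp only [Finset.mul_sum]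
        _ ≤ ∑ s ∈ S, ∑ _t ∈ S, A.card := Finset.sum_le_sum fun s hs => Finset.sum_le_sum fun t _ => hT s hs t
        _ = _ := by simp only [Finset.sum_const, smul_eq_mul]; ring
    have h4 := Nat.le_of_mul_le_mul_right h3 hA1
    have h5 : S.card * S.card ≤ (fixedBy Ω g)ᶜ.ncard ^ 2 := by rw [sq]; exact Nat.mul_le_mul hS hS
    omega
  haveI hprim : IsPreprimitive G Ω := isPreprimitive_of_is_two_pretransitive h2
  haveI : IsPreprimitive (MulAction.toPermHom G Ω).range Ω := by
    let f : Ω →ₑ[(MulAction.toPermHom G Ω).rangeRestrict] Ω := { toFun := id, map_smul' := fun _ _ => rfl }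
    exact IsPreprimitive.of_surjective (f := f) Function.surjective_id
  refine Equiv.Perm.alternatingGroup_le_of_isPreprimitive_of_isThreeCycle_mem ‹_›
    (isThreeCycle_commutator (MulAction.toPerm g) (MulAction.toPerm (h * g * h⁻¹)) a ?_ ?_ ?_)
    ⟨g * (h * g * h⁻¹) * g⁻¹ * (h * g * h⁻¹)⁻¹, ?_⟩
  · exact ha
  · show (h * g * h⁻¹) • a ≠ a
    rw [mul_smul, mul_smul, inv_smul_eq_iff.mpr hha.symm]
    exact fun e => ha (MulAction.injective h (e.trans hha.symm))
  · intro z hz hz'
    by_contra hza
    have hz'' : (h * g * h⁻¹) • z ≠ z := hz'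
    refine hh (h⁻¹ • z) (Finset.mem_filter.mpr ⟨Finset.mem_univ _, ?_, ?_⟩)
      (by rw [smul_inv_smul]; exact Finset.mem_filter.mpr ⟨Finset.mem_univ _, hz, hza⟩)
    · intro e
      exact hz'' (by rw [mul_smul, mul_smul, e, smul_inv_smul])
    · intro e
      exact hza (by rw [← hha, ← e, smul_inv_smul])
  · ext z
    simp [mul_smul, mul_assoc]

/-- The minimal degree of a primitive group not containing the alternating group. -/
theorem card_le_sq [Finite G] [Fintype Ω] [DecidableEq Ω] [FaithfulSMul G Ω] (hprim : IsPreprimitive G Ω)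
    (hA : ¬ alternatingGroup Ω ≤ (MulAction.toPermHom G Ω).range) (g : G) (hg : g ≠ 1) :
    Fintype.card Ω ≤ (2 * (fixedBy Ω g)ᶜ.ncard + 1) ^ 2 := by
  haveI := hprim
  obtain ⟨a, ha⟩ : ∃ a : Ω, g • a ≠ a := by
    by_contra hcon
    push Not at hcon
    exact hg (eq_of_smul_eq_smul fun z => by rw [hcon z, one_smul])
  by_cases h2 : IsMultiplyPretransitive G Ω 2
  · by_contra hlt
    refine hA (alternating_le_of_two_transitive h2 g a ha ?_)
    have : (fixedBy Ω g)ᶜ.ncard ^ 2 + 1 ≤ (2 * (fixedBy Ω g)ᶜ.ncard + 1) ^ 2 := by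
      generalize (fixedBy Ω g)ᶜ.ncard = m
      ring_nf
      omega
    omega
  · have h1 := card_le_four_D_sq h2 (Ne.symm ha)
    have h3 : D G a (g • a) ≤ (fixedBy Ω g)ᶜ.ncard :=
      Set.ncard_le_ncard (fun z hz hfix => hz g hfix rfl) (Set.toFinite _)
    rw [Nat.card_eq_fintype_card] at h1
    nlinarith

end CfsgLib.AltGroups.MinimalDegree
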