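import Cfsg.Agent.Lib.AltGroups.MarggrafDesign
import Cfsg.Agent.Lib.AltGroups.MinimalDegree
import Cfsg.Agent.Lib.OrderDegrees.Marggraf

/-!
Marggraf's theorem: a primitive or quasiprimitive group with a Jordan set of fewer than half of the points
contains the alternating group.
-/

set_option autoImplicit false
set_option linter.style.haveILetI false
set_option linter.unusedSectionVars false

open MulAction Equiv

namespace CfsgLib.AltGroups.Marggraf

universe u v

/-- The pointwise stabiliser of the complement of `Γ` is transitive on `Γ`. -/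
def Jordan (G : Type u) [Group G] {Ω : Type v} [MulAction G Ω] (Γ : Finset Ω) : Prop :=
  ∀ x ∈ Γ, ∀ y ∈ Γ, ∃ g : G, (∀ z ∉ Γ, g • z = z) ∧ g • x = y

variable {G : Type u} [Group G] {Ω : Type v} [MulAction G Ω] [Fintype Ω] [DecidableEq Ω]

theorem three_transitive (hprim : IsPreprimitive G Ω) {Γ : Finset Ω} (h1 : 1 < Γ.card)
    (h2 : 2 * Γ.card ≤ Fintype.card Ω) (hJ : Jordan G Γ) : IsMultiplyPretransitive G Ω 3 :=
  CfsgLib.OrderDegrees.isMultiplyPretransitive_three_of_jordan hprim (↑Γ)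
    (by rwa [Set.ncard_coe_finset]) (by rwa [Set.ncard_coe_finset, Nat.card_eq_fintype_card])
    (fun x hx y hy => by
      obtain ⟨g, hg, hgx⟩ := hJ x (Finset.mem_coe.mp hx) y (Finset.mem_coe.mp hy)
      exact ⟨g, fun z hz => hg z (fun h => hz (Finset.mem_coe.mpr h)), hgx⟩)

theorem Jordan.image {Γ : Finset Ω} (hJ : Jordan G Γ) (g : G) : Jordan G (Γ.image (g • ·)) := by
  intro x hx y hy
  obtain ⟨x', hx', rfl⟩ := Finset.mem_image.mp hx
  obtain ⟨y', hy', rfl⟩ := Finset.mem_image.mp hy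
  obtain ⟨h, hh, hhx⟩ := hJ x' hx' y' hy'
  refine ⟨g * h * g⁻¹, fun z hz => ?_, ?_⟩
  · rw [mul_smul, mul_smul, hh _ (fun hmem => hz (Finset.mem_image.mpr ⟨_, hmem, smul_inv_smul g z⟩)),
      smul_inv_smul]
  · show (g * h * g⁻¹) • (g • x') = g • y'
    rw [mul_smul, mul_smul, inv_smul_smul, hhx]

/-- Averaging: a conjugate meets `Γ` in more than half of it. -/
theorem exists_large_meet [Fintype G] (h4 : IsMultiplyPretransitive G Ω 4) {Γ : Finset Ω} {m : ℕ}
    (hm : Γ.card = m) (hm3 : 3 ≤ m) (hn : Fintype.card Ω = 2 * m + 1) :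
    ∃ g : G, Γ.image (g • ·) ≠ Γ ∧ m + 1 ≤ 2 * ((Γ.image (g • ·)) ∩ Γ).card := by
  classical
  obtain ⟨x, hx, y, hy, z, hz, hxy, hxz, hyz⟩ :
      ∃ x ∈ Γ, ∃ y ∈ Γ, ∃ z ∈ Γ, x ≠ y ∧ x ≠ z ∧ y ≠ z := Finset.two_lt_card.mp (by omega)
  obtain ⟨c, hc⟩ : ∃ c, c ∉ Γ := by
    by_contra hcon
    push Not at hcon
    have : Γ = Finset.univ := Finset.eq_univ_iff_forall.mpr hcon
    rw [this, Finset.card_univ] at hm
    omega
  have h4' : ∀ p q r t p' q' r' t' : Ω, p ≠ q → p ≠ r → p ≠ t → q ≠ r → q ≠ t → r ≠ t →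
      p' ≠ q' → p' ≠ r' → p' ≠ t' → q' ≠ r' → q' ≠ t' → r' ≠ t' →
      ∃ g : G, g • p = p' ∧ g • q = q' ∧ g • r = r' ∧ g • t = t' := by
    intro p q r t p' q' r' t' h1 h2 h3 h4' h5 h6 h1' h2' h3' h4'' h5' h6'
    obtain ⟨g, hg⟩ := exists_map h4
      ⟨![p, q, r, t], fun i j => by
        fin_cases i <;> fin_cases j <;> simp [h1, h2, h3, h4', h5, h6, Ne.symm h1, Ne.symm h2, Ne.symm h3,
          Ne.symm h4', Ne.symm h5, Ne.symm h6]⟩
      ⟨![p', q', r', t'], fun i j => by
        fin_cases i <;> fin_cases j <;> simp [h1', h2', h3', h4'', h5', h6', Ne.symm h1', Ne.symm h2',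
          Ne.symm h3', Ne.symm h4'', Ne.symm h5', Ne.symm h6']⟩
    exact ⟨g, hg 0, hg 1, hg 2, hg 3⟩
  obtain ⟨c', hc', hcc'⟩ : ∃ c', c' ∉ Γ ∧ c ≠ c' := by
    by_contra hcon
    push Not at hcon
    have : Finset.univ ⊆ insert c Γ := fun u _ => by
      by_cases hu : u ∈ Γ
      · exact Finset.mem_insert_of_mem hu
      · exact Finset.mem_insert.mpr (Or.inl (hcon u hu).symm)
    have h := Finset.card_le_card this
    rw [Finset.card_univ, Finset.card_insert_of_notMem hc, hm] at h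
    omega
  have hxc : x ≠ c := fun h => hc (h ▸ hx)
  have hyc : y ≠ c := fun h => hc (h ▸ hy)
  obtain ⟨g₀, hg₀x, hg₀y, hg₀c, -⟩ := h4' x y c c' x y z c' hxy hxc (fun h => hc' (h ▸ hx)) hyc
    (fun h => hc' (h ▸ hy)) hcc' hxy hxz (fun h => hc' (h ▸ hx)) hyz (fun h => hc' (h ▸ hy))
    (fun h => hc' (h ▸ hz))
  set Γ₀ := Γ.image (g₀ • ·) with hΓ₀
  have hzΓ₀ : z ∉ Γ₀ := fun h => by
    obtain ⟨u, hu, hue⟩ := Finset.mem_image.mp h
    exact hc (MulAction.injective g₀ (hue.trans hg₀c.symm) ▸ hu)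
  have hxΓ₀ : x ∈ Γ₀ := Finset.mem_image.mpr ⟨x, hx, hg₀x⟩
  have hyΓ₀ : y ∈ Γ₀ := Finset.mem_image.mpr ⟨y, hy, hg₀y⟩
  have hm0 : Γ₀.card = m := by rw [hΓ₀, Finset.card_image_of_injective _ (MulAction.injective g₀), hm]
  let H : Finset G := Finset.univ.filter fun h => h • x = x ∧ h • y = y ∧ h • z = z
  have himg : ∀ h ∈ H, Γ.image ((h * g₀) • ·) = Γ₀.image (h • ·) ∧ z ∉ Γ₀.image (h • ·) ∧
      x ∈ Γ₀.image (h • ·) ∧ y ∈ Γ₀.image (h • ·) := by
    intro h hh
    obtain ⟨h1, h2, h3⟩ := (Finset.mem_filter.mp hh).2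
    refine ⟨?_, ?_, Finset.mem_image.mpr ⟨x, hxΓ₀, h1⟩, Finset.mem_image.mpr ⟨y, hyΓ₀, h2⟩⟩
    · rw [hΓ₀, Finset.image_image]
      exact Finset.image_congr fun u _ => mul_smul h g₀ u
    · intro hmem
      obtain ⟨u, hu, hue⟩ := Finset.mem_image.mp hmem
      exact hzΓ₀ (MulAction.injective h (hue.trans h3.symm) ▸ hu)
  -- the average
  by_contra hcon
  push Not at hcon
  have hsmall : ∀ h ∈ H, 2 * ((Γ₀.image (h • ·)) ∩ Γ).card ≤ m := by
    intro h hh
    obtain ⟨h1, h2, -⟩ := himg h hh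
    have := hcon (h * g₀) (by rw [h1]; exact fun e => h2 (e ▸ hz))
    rw [h1] at this
    omega
  rcases Nat.lt_or_ge m 4 with hm4 | hm4
  · have h1H : (1 : G) ∈ H := by simp [H]
    have := hsmall 1 h1H
    obtain ⟨-, -, h3, h4''⟩ := himg 1 h1H
    have h5 : ({x, y} : Finset Ω) ⊆ (Γ₀.image ((1 : G) • ·)) ∩ Γ := by
      intro u hu
      rcases Finset.mem_insert.mp hu with rfl | hu
      · exact Finset.mem_inter.mpr ⟨h3, hx⟩
      · exact Finset.mem_inter.mpr ⟨Finset.mem_singleton.mp hu ▸ h4'', Finset.mem_singleton.mp hu ▸ hy⟩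
    have h6 := Finset.card_le_card h5
    rw [Finset.card_pair hxy] at h6
    omega
  let A := (Γ₀.erase x).erase y
  let B := ((Γ.erase x).erase y).erase z
  have hA : A.card = m - 2 := by
    simp only [A]
    rw [Finset.card_erase_of_mem (Finset.mem_erase.mpr ⟨hxy.symm, hyΓ₀⟩), Finset.card_erase_of_mem hxΓ₀, hm0]
    omega
  have hB : B.card = m - 3 := by
    simp only [B]
    rw [Finset.card_erase_of_mem (Finset.mem_erase.mpr ⟨hyz.symm, Finset.mem_erase.mpr ⟨hxz.symm, hz⟩⟩),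
      Finset.card_erase_of_mem (Finset.mem_erase.mpr ⟨hxy.symm, hy⟩), Finset.card_erase_of_mem hx, hm]
    omega
  let N : Ω → Ω → Finset G := fun s t => H.filter fun h => h • s = t
  let R := ((Finset.univ.erase x).erase y).erase z
  have hR : R.card = 2 * m - 2 := by
    simp only [R]
    rw [Finset.card_erase_of_mem (Finset.mem_erase.mpr ⟨hyz.symm, Finset.mem_erase.mpr ⟨hxz.symm, Finset.mem_univ _⟩⟩),
      Finset.card_erase_of_mem (Finset.mem_erase.mpr ⟨hxy.symm, Finset.mem_univ _⟩),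
      Finset.card_erase_of_mem (Finset.mem_univ _), Finset.card_univ, hn]
    omega
  have hN : ∀ s ∈ A, ∀ t ∈ B, H.card ≤ R.card * (N s t).card := by
    intro s hs t ht
    simp only [A, B, Finset.mem_erase] at hs ht
    have hsz : s ≠ z := fun h => hzΓ₀ (h ▸ hs.2.2)
    have hcov : H ⊆ R.biUnion fun u => N s u := by
      intro h hh
      obtain ⟨h1, h2, h3⟩ := (Finset.mem_filter.mp hh).2
      refine Finset.mem_biUnion.mpr ⟨h • s, ?_, Finset.mem_filter.mpr ⟨hh, rfl⟩⟩
      simp only [R, Finset.mem_erase, Finset.mem_univ, and_true]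
      exact ⟨fun e => hsz (MulAction.injective h (e.trans h3.symm)),
        fun e => hs.1 (MulAction.injective h (e.trans h2.symm)),
        fun e => hs.2.1 (MulAction.injective h (e.trans h1.symm))⟩
    refine (Finset.card_le_card hcov).trans (Finset.card_biUnion_le.trans ?_)
    rw [← smul_eq_mul, ← Finset.sum_const]
    refine Finset.sum_le_sum fun u hu => ?_
    simp only [R, Finset.mem_erase, Finset.mem_univ, and_true] at hu
    obtain ⟨k, hk1, hk2, hk3, hk4⟩ := h4' x y z u x y z t hxy hxz (Ne.symm hu.2.2) hyz (Ne.symm hu.2.1)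
      (Ne.symm hu.1) hxy hxz (Ne.symm ht.2.2.1) hyz (Ne.symm ht.2.1) (Ne.symm ht.1)
    refine Finset.card_le_card_of_injOn (fun h => k * h) (fun h hh => ?_)
      (fun _ _ _ _ e => mul_left_cancel e)
    simp only [N, H, Finset.coe_filter, Finset.mem_filter, Finset.mem_univ, true_and, Set.mem_setOf_eq] at hh ⊢
    exact ⟨⟨by rw [mul_smul, hh.1.1, hk1], by rw [mul_smul, hh.1.2.1, hk2], by rw [mul_smul, hh.1.2.2, hk3]⟩,
      by rw [mul_smul, hh.2, hk4]⟩
  have hsum : ∀ h ∈ H, 2 * (B.filter fun t => t ∈ A.image (h • ·)).card ≤ m - 4 := by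
    intro h hh
    have h0 := hsmall h hh
    obtain ⟨h1', h2', -⟩ := (Finset.mem_filter.mp hh).2
    obtain ⟨-, -, h3, h4''⟩ := himg h hh
    have hsub : insert x (insert y (B.filter fun t => t ∈ A.image (h • ·))) ⊆ (Γ₀.image (h • ·)) ∩ Γ := by
      refine Finset.insert_subset (Finset.mem_inter.mpr ⟨h3, hx⟩) (Finset.insert_subset
        (Finset.mem_inter.mpr ⟨h4'', hy⟩) fun t ht => ?_)
      simp only [Finset.mem_filter, A, B, Finset.mem_erase, Finset.mem_image] at ht
      obtain ⟨ht1, s, hs, hst⟩ := ht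
      exact Finset.mem_inter.mpr ⟨Finset.mem_image.mpr ⟨s, hs.2.2, hst⟩, ht1.2.2.2⟩
    have h7 := Finset.card_le_card hsub
    rw [Finset.card_insert_of_notMem, Finset.card_insert_of_notMem] at h7
    · omega
    · simp [B]
    · simp [B, hxy]
  have hcount : ∑ s ∈ A, ∑ t ∈ B, (N s t).card ≤ ∑ h ∈ H, (B.filter fun t => t ∈ A.image (h • ·)).card := by
    simp only [N, Finset.card_filter]
    rw [Finset.sum_comm, Finset.sum_comm (s := H)]
    refine Finset.sum_le_sum fun t _ => ?_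
    rw [Finset.sum_comm]
    refine Finset.sum_le_sum fun h _ => ?_
    by_cases hmem : t ∈ A.image (h • ·)
    · rw [if_pos hmem, ← Finset.card_filter]
      refine Finset.card_le_one.mpr fun s hs s' hs' => MulAction.injective h ?_
      exact (Finset.mem_filter.mp hs).2.trans (Finset.mem_filter.mp hs').2.symm
    · rw [if_neg hmem]
      refine le_of_eq (Finset.sum_eq_zero fun s hs => if_neg fun e => hmem ?_)
      exact Finset.mem_image.mpr ⟨s, hs, e⟩
  have hH : 0 < H.card := Finset.card_pos.mpr ⟨1, by simp [H]⟩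
  have h8 : 2 * (A.card * B.card) * H.card ≤ R.card * ((m - 4) * H.card) := by
    calc 2 * (A.card * B.card) * H.card = 2 * ∑ _s ∈ A, ∑ _t ∈ B, H.card := by
          simp only [Finset.sum_const, smul_eq_mul]; ring
      _ ≤ 2 * ∑ s ∈ A, ∑ t ∈ B, R.card * (N s t).card :=
          Nat.mul_le_mul_left 2 (Finset.sum_le_sum fun s hs => Finset.sum_le_sum fun t ht => hN s hs t ht)
      _ = 2 * (R.card * ∑ s ∈ A, ∑ t ∈ B, (N s t).card) := by simp only [Finset.mul_sum]
      _ ≤ 2 * (R.card * ∑ h ∈ H, (B.filter fun t => t ∈ A.image (h • ·)).card) :=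
          Nat.mul_le_mul_left 2 (Nat.mul_le_mul_left _ hcount)
      _ = R.card * ∑ h ∈ H, 2 * (B.filter fun t => t ∈ A.image (h • ·)).card := by
          rw [← Finset.mul_sum]; ring
      _ ≤ R.card * ∑ _h ∈ H, (m - 4) := Nat.mul_le_mul_left _ (Finset.sum_le_sum hsum)
      _ = _ := by simp only [Finset.sum_const, smul_eq_mul]; ring
  rw [hA, hB, hR, ← mul_assoc (2 * m - 2)] at h8
  have h9 := Nat.le_of_mul_le_mul_right h8 hH
  obtain ⟨j, rfl⟩ := Nat.exists_eq_add_of_le hm4
  rw [show 4 + j - 2 = j + 2 by omega, show 4 + j - 3 = j + 1 by omega, show 4 + j - 4 = j by omega,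
    show 2 * (4 + j) - 2 = 2 * j + 6 by omega] at h9
  nlinarith

/-- Degree `2m + 1`: the Jordan sets force high transitivity. -/
theorem transitive_half [Finite G] {Γ : Finset Ω} {m : ℕ} (h4 : IsMultiplyPretransitive G Ω 4)
    (hm : Γ.card = m) (hm3 : 3 ≤ m) (hn : Fintype.card Ω = 2 * m + 1) (hJ : Jordan G Γ) :
    IsMultiplyPretransitive G Ω (m + 1) := by
  classical
  haveI := Fintype.ofFinite G
  let 𝒞 : Finset (Finset Ω) := Finset.univ.image fun g : G => Finset.univ \ Γ.image (g • ·)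
  have hmem : ∀ g : G, Finset.univ \ Γ.image (g • ·) ∈ 𝒞 := fun g =>
    Finset.mem_image.mpr ⟨g, Finset.mem_univ _, rfl⟩
  have hcard : ∀ C ∈ 𝒞, C.card = m + 1 := by
    intro C hC
    obtain ⟨g, -, rfl⟩ := Finset.mem_image.mp hC
    rw [Finset.card_univ_sdiff, Finset.card_image_of_injective _ (MulAction.injective g), hm, hn]
    omega
  have hinv : ∀ (g : G), ∀ C ∈ 𝒞, C.image (g • ·) ∈ 𝒞 := by
    intro g C hC
    obtain ⟨g', -, rfl⟩ := Finset.mem_image.mp hC
    convert hmem (g * g') using 1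
    rw [Finset.image_sdiff _ _ (MulAction.injective g), Finset.image_image,
      Finset.image_univ_of_surjective (MulAction.surjective g)]
    congr 1
    exact Finset.image_congr fun u _ => (mul_smul g g' u).symm
  have hJ' : ∀ C ∈ 𝒞, ∀ x, x ∉ C → ∀ y, y ∉ C → ∃ g : G, (∀ z ∈ C, g • z = z) ∧ g • x = y := by
    intro C hC x hx y hy
    obtain ⟨g', -, rfl⟩ := Finset.mem_image.mp hC
    simp only [Finset.mem_sdiff, Finset.mem_univ, true_and, not_not] at hx hy
    obtain ⟨g, hg, hgx⟩ := hJ.image g' x hx y hy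
    exact ⟨g, fun z hz => hg z (Finset.mem_sdiff.mp hz).2, hgx⟩
  obtain ⟨g₁, hg₁, hbig⟩ := exists_large_meet h4 hm hm3 hn
  let P := (𝒞 ×ˢ 𝒞).filter fun p => p.1 ≠ p.2
  have hP₁ : (Finset.univ \ Γ.image (g₁ • ·), Finset.univ \ Γ.image ((1 : G) • ·)) ∈ P := by
    refine Finset.mem_filter.mpr ⟨Finset.mem_product.mpr ⟨hmem _, hmem _⟩, fun e => hg₁ ?_⟩
    have := congrArg (fun s => Finset.univ \ s) e
    simp only [Finset.sdiff_sdiff_eq_self (Finset.subset_univ _)] at this
    simpa using this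
  obtain ⟨p, hp, hpmax⟩ := P.exists_max_image (fun p => (p.1 ∩ p.2).card) ⟨_, hP₁⟩
  obtain ⟨hp12, hpne⟩ := Finset.mem_filter.mp hp
  rw [Finset.mem_product] at hp12
  refine design_step (w := (p.1 ∩ p.2).card) (v := m + 1) (by omega) (isMultiplyPretransitive_of_le (n := 4) (by omega) (by rw [Nat.card_eq_fintype_card]; omega))
    hinv hcard hJ' (fun C hC C' hC' hne => hpmax (C, C') (Finset.mem_filter.mpr
      ⟨Finset.mem_product.mpr ⟨hC, hC'⟩, hne⟩)) hp12.1 hp12.2 hpne rfl ?_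
  have h1 := hpmax _ hP₁
  have h2 : ((Finset.univ \ Γ.image (g₁ • ·)) ∩ (Finset.univ \ Γ.image ((1 : G) • ·))).card =
      ((Γ.image (g₁ • ·)) ∩ Γ).card + 1 := by
    rw [← Finset.sdiff_union_distrib, Finset.card_univ_sdiff, hn]
    have h3 := Finset.card_union_add_card_inter (Γ.image (g₁ • ·)) Γ
    rw [Finset.card_image_of_injective _ (MulAction.injective g₁), hm] at h3
    simp only [one_smul, Finset.image_id']
    omega
  simp only at h1
  rw [h2] at h1
  omega

theorem swap_case [FaithfulSMul G Ω] (hprim : IsPreprimitive G Ω) {Γ : Finset Ω} (hm : Γ.card = 2)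
    (hJ : Jordan G Γ) : alternatingGroup Ω ≤ (MulAction.toPermHom G Ω).range := by
  obtain ⟨x, y, hxy, rfl⟩ := Finset.card_eq_two.mp hm
  obtain ⟨g, hg, hgx⟩ := hJ x (by simp) y (by simp)
  haveI : IsPreprimitive (MulAction.toPermHom G Ω).range Ω := by
    let f : Ω →ₑ[(MulAction.toPermHom G Ω).rangeRestrict] Ω := { toFun := id, map_smul' := fun _ _ => rfl }
    exact IsPreprimitive.of_surjective (f := f) Function.surjective_id
  have hgy : g • y = x := by
    by_contra hne
    have h1 : g • y ≠ y := fun e => hxy (MulAction.injective g (hgx.trans e.symm))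
    exact hne (by
      by_contra h2
      have h3 : g • y ∉ ({x, y} : Finset Ω) := by simp [h1, h2]
      exact h1 (MulAction.injective g (hg _ h3)))
  rw [Equiv.Perm.subgroup_eq_top_of_isPreprimitive_of_isSwap_mem (G := (MulAction.toPermHom G Ω).range) ‹_›
    (MulAction.toPerm g) ⟨x, y, hxy, Equiv.ext fun z => ?_⟩ ⟨g, rfl⟩]
  · exact le_top
  · show g • z = _
    by_cases hzx : z = x
    · subst hzx; rw [hgx, swap_apply_left]
    by_cases hzy : z = y
    · subst hzy; rw [hgy, swap_apply_right]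
    rw [swap_apply_of_ne_of_ne hzx hzy, hg z (by simp [hzx, hzy])]

/-- Marggraf's theorem. -/
theorem alternating_le_of_jordan : ∀ (n : ℕ) {G : Type u} [Group G] [Finite G] {Ω : Type v}
    [MulAction G Ω] [FaithfulSMul G Ω] [Fintype Ω] [DecidableEq Ω] {Γ : Finset Ω},
    Fintype.card Ω = n → IsPreprimitive G Ω → 1 < Γ.card → 2 * Γ.card < n → Jordan G Γ →
      alternatingGroup Ω ≤ (MulAction.toPermHom G Ω).range := by
  intro n
  induction n using Nat.strong_induction_on with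
  | _ n ih =>
  intro G _ _ Ω _ _ _ _ Γ hn hprim h1 h2 hJ
  rcases (show Γ.card = 2 ∨ 3 ≤ Γ.card by omega) with hm | hm
  · exact swap_case hprim hm hJ
  haveI := hprim
  have h3 := three_transitive hprim h1 (by omega) hJ
  haveI := h3
  haveI : IsPreprimitive (MulAction.toPermHom G Ω).range Ω := by
    let f : Ω →ₑ[(MulAction.toPermHom G Ω).rangeRestrict] Ω := { toFun := id, map_smul' := fun _ _ => rfl }
    exact IsPreprimitive.of_surjective (f := f) Function.surjective_id
  obtain ⟨a, ha⟩ : ∃ a, a ∉ Γ := by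
    by_contra hcon
    push Not at hcon
    rw [Finset.eq_univ_iff_forall.mpr hcon, Finset.card_univ] at h2
    omega
  have h2a : IsMultiplyPretransitive (stabilizer G a) (SubMulAction.ofStabilizer G a) 2 :=
    SubMulAction.ofStabilizer.isMultiplyPretransitive.mp h3
  have hprima := isPreprimitive_of_is_two_pretransitive h2a
  letI : Fintype (SubMulAction.ofStabilizer G a) := Fintype.ofFinite _
  haveI : FaithfulSMul (stabilizer G a) (SubMulAction.ofStabilizer G a) := by
    refine ⟨fun {k k'} h => Subtype.ext (eq_of_smul_eq_smul (α := Ω) fun z => ?_)⟩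
    by_cases hz : z = a
    · subst hz; rw [mem_stabilizer_iff.mp k.2, mem_stabilizer_iff.mp k'.2]
    · exact congrArg Subtype.val (h ⟨z, hz⟩)
  let ι : SubMulAction.ofStabilizer G a ↪ Ω := Function.Embedding.subtype _
  let Γa : Finset (SubMulAction.ofStabilizer G a) := Finset.univ.filter fun z => (z : Ω) ∈ Γ
  have hΓa : Γa.card = Γ.card := by
    refine Finset.card_bij (fun z _ => (z : Ω)) (fun z hz => (Finset.mem_filter.mp hz).2)
      (fun _ _ _ _ h => Subtype.ext h) (fun z hz => ⟨⟨z, fun h => ha (h ▸ hz)⟩, ?_, rfl⟩)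
    exact Finset.mem_filter.mpr ⟨Finset.mem_univ _, hz⟩
  have hcarda : Fintype.card (SubMulAction.ofStabilizer G a) = n - 1 := by
    rw [← hn, ← Set.card_ne_eq a]
    exact Fintype.card_congr (Equiv.refl _)
  have hJa : Jordan (stabilizer G a) Γa := by
    intro x hx y hy
    obtain ⟨g, hg, hgx⟩ := hJ _ (Finset.mem_filter.mp hx).2 _ (Finset.mem_filter.mp hy).2
    exact ⟨⟨g, hg a ha⟩, fun z hz => Subtype.ext (hg _ fun h => hz (Finset.mem_filter.mpr ⟨Finset.mem_univ _, h⟩)),
      Subtype.ext hgx⟩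
  rcases Nat.lt_or_ge (2 * Γ.card) (n - 1) with hlt | hge
  · -- induction
    have hA := ih (n - 1) (by omega) hcarda hprima (by omega) (by omega) hJa
    obtain ⟨x, hx, y, hy, z, hz, hxy, hxz, hyz⟩ :
        ∃ x ∈ Γa, ∃ y ∈ Γa, ∃ z ∈ Γa, x ≠ y ∧ x ≠ z ∧ y ≠ z := Finset.two_lt_card.mp (by omega)
    obtain ⟨g, hg⟩ := hA ((Equiv.Perm.isThreeCycle_swap_mul_swap_same hxy hxz hyz).mem_alternatingGroup)
    refine Equiv.Perm.alternatingGroup_le_of_isPreprimitive_of_isThreeCycle_mem ‹_›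
      (Equiv.Perm.isThreeCycle_swap_mul_swap_same
        (a := (x : Ω)) (b := (y : Ω)) (c := (z : Ω)) (fun h => hxy (Subtype.ext h))
        (fun h => hxz (Subtype.ext h)) (fun h => hyz (Subtype.ext h)))
      ⟨(g : G), Equiv.ext fun w => ?_⟩
    show (g : G) • w = _
    by_cases hw : w = a
    · subst hw
      rw [mem_stabilizer_iff.mp g.2, Perm.mul_apply, swap_apply_of_ne_of_ne (Ne.symm x.2) (Ne.symm z.2),
        swap_apply_of_ne_of_ne (Ne.symm x.2) (Ne.symm y.2)]
    · have h5 := congrArg Subtype.val (Equiv.ext_iff.mp hg ⟨w, hw⟩)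
      have h6 : ∀ p q r : SubMulAction.ofStabilizer G a,
          ((swap p q r : SubMulAction.ofStabilizer G a) : Ω) = swap (p : Ω) q r := fun p q r =>
        (Subtype.val_injective.swap_apply p q r).symm
      simp only [Perm.mul_apply, h6] at h5
      exact h5
  · -- degree `2|Γ| + 1`
    have h3a := three_transitive (G := stabilizer G a) hprima (Γ := Γa) (by omega) (by omega) hJa
    haveI : IsPretransitive G Ω := hprim.toIsPretransitive
    have h4 : IsMultiplyPretransitive G Ω 4 :=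
      SubMulAction.ofStabilizer.isMultiplyPretransitive.mpr h3a
    have hmt := transitive_half h4 rfl hm (by omega) hJ
    obtain ⟨x, hx, y, hy, hxy⟩ := Finset.one_lt_card.mp h1
    -- a conjugate meeting `Γ` in `{x}`
    obtain ⟨S, hS, hScard⟩ := Finset.exists_subset_card_eq (s := Finset.univ \ Γ) (n := Γ.card - 1)
      (by rw [Finset.card_univ_sdiff, hn]; omega)
    have hxS : x ∉ S := fun h => (Finset.mem_sdiff.mp (hS h)).2 hx
    have hmt' : IsMultiplyPretransitive G Ω Γ.card :=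
      isMultiplyPretransitive_of_le (n := Γ.card + 1) (by omega) (by rw [Nat.card_eq_fintype_card]; omega)
    obtain ⟨g, hg⟩ := exists_map_finset hmt' (rfl : Γ.card = Γ.card)
      (show (insert x S).card = Γ.card by rw [Finset.card_insert_of_notMem hxS, hScard]; omega)
    obtain ⟨j, hj, hjx⟩ := hJ x hx y hy
    have hxg : x ∈ Γ.image (g • ·) := hg ▸ Finset.mem_insert_self x S
    obtain ⟨y', hy', hy'x⟩ : ∃ y' ∈ Γ.image (g • ·), y' ≠ x := Finset.exists_mem_ne
      (by rw [Finset.card_image_of_injective _ (MulAction.injective g)]; omega) x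
    obtain ⟨j', hj', hj'x⟩ := hJ.image g x hxg y' hy'
    refine Equiv.Perm.alternatingGroup_le_of_isPreprimitive_of_isThreeCycle_mem ‹_›
      (MinimalDegree.isThreeCycle_commutator (MulAction.toPerm j) (MulAction.toPerm j') x ?_ ?_ ?_)
      ⟨j * j' * j⁻¹ * j'⁻¹, ?_⟩
    · show j • x ≠ x
      rw [hjx]; exact hxy.symm
    · show j' • x ≠ x
      rw [hj'x]; exact hy'x
    · intro z hz hz'
      have hzΓ : z ∈ Γ := by by_contra h; exact hz (hj z h)
      have hzg : z ∈ Γ.image (g • ·) := by by_contra h; exact hz' (hj' z h)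
      rw [hg, Finset.mem_insert] at hzg
      exact hzg.resolve_right fun h => (Finset.mem_sdiff.mp (hS h)).2 hzΓ
    · ext w
      simp [mul_smul, mul_assoc]

end CfsgLib.AltGroups.Marggraf
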