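import Mathlib

/-!
The combinatorial step of Marggraf's theorem: a family of `v`-subsets of `2v - 1` points, invariant under a
group, with each pointwise stabiliser transitive off its member, two members meeting in `w ≥ (v + 2)/2` points
and no two in more, forces `w = v - 1` and `(w + 1)`-fold transitivity.
-/

set_option autoImplicit false
set_option linter.style.haveILetI false
set_option linter.unusedSectionVars false

open MulAction

namespace CfsgLib.AltGroups.Marggraf

variable {G Ω : Type*} [Group G] [MulAction G Ω] [Fintype Ω] [DecidableEq Ω]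

theorem exists_map {k : ℕ} (h : IsMultiplyPretransitive G Ω k) (f f' : Fin k ↪ Ω) :
    ∃ g : G, ∀ i, g • f i = f' i := by
  haveI := h
  obtain ⟨g, hg⟩ := exists_smul_eq G f f'
  exact ⟨g, fun i => by rw [← hg]; rfl⟩

theorem exists_map_finset {k : ℕ} (h : IsMultiplyPretransitive G Ω k) {S T : Finset Ω}
    (hS : S.card = k) (hT : T.card = k) : ∃ g : G, S.image (g • ·) = T := by
  obtain ⟨g, hg⟩ := exists_map h ((S.equivFinOfCardEq hS).symm.toEmbedding.trans (Function.Embedding.subtype _))
    ((T.equivFinOfCardEq hT).symm.toEmbedding.trans (Function.Embedding.subtype _))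
  refine ⟨g, Finset.eq_of_subset_of_card_le (fun y hy => ?_)
    (by rw [Finset.card_image_of_injective _ (MulAction.injective g), hS, hT])⟩
  obtain ⟨x, hx, rfl⟩ := Finset.mem_image.mp hy
  have h1 := hg (S.equivFinOfCardEq hS ⟨x, hx⟩)
  simp only [Function.Embedding.trans_apply, Equiv.coe_toEmbedding, Equiv.symm_apply_apply,
    Function.Embedding.subtype_apply] at h1
  rw [h1]
  exact Subtype.coe_prop _

/-- `k`-transitive and transitive off each `k`-set is `(k + 1)`-transitive. -/
theorem multiply_succ {k : ℕ} (hk : IsMultiplyPretransitive G Ω k)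
    (h : ∀ S : Finset Ω, S.card = k → ∀ e, e ∉ S → ∀ e', e' ∉ S →
      ∃ g : G, (∀ z ∈ S, g • z = z) ∧ g • e = e') : IsMultiplyPretransitive G Ω (k + 1) := by
  refine (isMultiplyPretransitive_iff).2 fun x y => ?_
  obtain ⟨g, hg⟩ := exists_map hk (Fin.castSuccEmb.trans x) (Fin.castSuccEmb.trans y)
  have hne : ∀ (z : Fin (k + 1) ↪ Ω) (i : Fin k), z i.castSucc ≠ z (Fin.last k) := fun z i e =>
    Fin.castSucc_ne_last i (z.injective e)
  obtain ⟨f, hf, hfe⟩ := h (Finset.univ.map (Fin.castSuccEmb.trans y)) (by simp) (g • x (Fin.last k))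
    (by
      simp only [Finset.mem_map, Finset.mem_univ, true_and]
      rintro ⟨i, hi⟩
      rw [← hg i] at hi
      exact hne x i (MulAction.injective g hi))
    (y (Fin.last k))
    (by
      simp only [Finset.mem_map, Finset.mem_univ, true_and]
      rintro ⟨i, hi⟩
      exact hne y i hi)
  refine ⟨f * g, Function.Embedding.ext fun i => ?_⟩
  show (f * g) • x i = y i
  refine Fin.lastCases ?_ (fun j => ?_) i
  · rw [mul_smul, hfe]
  · rw [mul_smul]
    have h1 := hg j
    simp only [Function.Embedding.trans_apply, Fin.coe_castSuccEmb] at h1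
    rw [h1]
    exact hf _ (Finset.mem_map.mpr ⟨j, Finset.mem_univ _, rfl⟩)

variable (𝒞 : Finset (Finset Ω))

/-- The intersection of the members containing `S`. -/
def cl (S : Finset Ω) : Finset Ω := Finset.univ.filter fun e => ∀ C ∈ 𝒞, S ⊆ C → e ∈ C

variable {𝒞}

theorem subset_cl (S : Finset Ω) : S ⊆ cl 𝒞 S := fun e he =>
  Finset.mem_filter.mpr ⟨Finset.mem_univ _, fun _ _ h => h he⟩

theorem cl_subset {S C : Finset Ω} (hC : C ∈ 𝒞) (h : S ⊆ C) : cl 𝒞 S ⊆ C := fun _ he =>
  (Finset.mem_filter.mp he).2 C hC h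

theorem cl_subset_cl {S T : Finset Ω} (h : T ⊆ cl 𝒞 S) : cl 𝒞 T ⊆ cl 𝒞 S := fun _ he =>
  Finset.mem_filter.mpr ⟨Finset.mem_univ _, fun C hC hSC =>
    cl_subset hC (h.trans (cl_subset hC hSC)) he⟩

/-- All closures of `k`-sets have one size. -/
theorem card_cl_eq {k : ℕ} (hk : IsMultiplyPretransitive G Ω k)
    (hinv : ∀ (g : G), ∀ C ∈ 𝒞, C.image (g • ·) ∈ 𝒞) {S T : Finset Ω} (hS : S.card = k) (hT : T.card = k) :
    (cl 𝒞 S).card = (cl 𝒞 T).card := by
  have key : ∀ {S T : Finset Ω}, S.card = k → T.card = k → (cl 𝒞 S).card ≤ (cl 𝒞 T).card := by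
    intro S T hS hT
    obtain ⟨g, rfl⟩ := exists_map_finset hk hS hT
    refine Finset.card_le_card_of_injOn (g • ·) (fun e he => ?_) (fun _ _ _ _ h => MulAction.injective g h)
    refine Finset.mem_filter.mpr ⟨Finset.mem_univ _, fun C hC hsub => ?_⟩
    have h1 : S ⊆ C.image (g⁻¹ • ·) := fun x hx =>
      Finset.mem_image.mpr ⟨g • x, hsub (Finset.mem_image_of_mem _ hx), inv_smul_smul g x⟩
    obtain ⟨y, hy, hye⟩ := Finset.mem_image.mp ((Finset.mem_filter.mp he).2 _ (hinv g⁻¹ C hC) h1)
    show g • e ∈ C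
    rw [show g • e = y by rw [← hye, smul_inv_smul]]
    exact hy
  exact le_antisymm (key hS hT) (key hT hS)

/-- Closures of `k`-sets form a Steiner system. -/
theorem cl_eq_of_subset {k : ℕ} (hk : IsMultiplyPretransitive G Ω k)
    (hinv : ∀ (g : G), ∀ C ∈ 𝒞, C.image (g • ·) ∈ 𝒞) {S T : Finset Ω} (hS : S.card = k) (hT : T.card = k)
    (h : T ⊆ cl 𝒞 S) : cl 𝒞 T = cl 𝒞 S :=
  Finset.eq_of_subset_of_card_le (cl_subset_cl h) (card_cl_eq hk hinv hS hT).le

/-- Tits' bound: `k + 1` points in general position need `(k + 1)(κ - k + 1)` points. -/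
theorem tits {k κ : ℕ} (hk : IsMultiplyPretransitive G Ω k)
    (hinv : ∀ (g : G), ∀ C ∈ 𝒞, C.image (g • ·) ∈ 𝒞)
    (hκ : ∀ S : Finset Ω, S.card = k → (cl 𝒞 S).card = κ) {S : Finset Ω} (hS : S.card = k) {e : Ω}
    (he : e ∉ cl 𝒞 S) (X : Finset Ω)
    (hX : ∀ T, T ⊆ insert e S → T.card = k → cl 𝒞 T ⊆ X) (heX : e ∈ X) :
    (k + 1) + (k + 1) * (κ - k) ≤ X.card := by
  have heS : e ∉ S := fun h => he (subset_cl S h)
  set Z := insert e S with hZ
  have hZc : Z.card = k + 1 := by rw [hZ, Finset.card_insert_of_notMem heS, hS]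
  have hTc : ∀ z ∈ Z, (Z.erase z).card = k := fun z hz => by
    rw [Finset.card_erase_of_mem hz, hZc]; omega
  have hind : ∀ z ∈ Z, z ∉ cl 𝒞 (Z.erase z) := by
    intro z hz hzc
    rcases Finset.mem_insert.mp hz with rfl | hzS
    · rw [hZ, Finset.erase_insert heS] at hzc
      exact he hzc
    · have hsub : S ⊆ cl 𝒞 (Z.erase z) := fun x hx => by
        by_cases hxz : x = z
        · exact hxz ▸ hzc
        · exact subset_cl _ (Finset.mem_erase.mpr ⟨hxz, Finset.mem_insert_of_mem hx⟩)
      rw [cl_eq_of_subset hk hinv (hTc z hz) hS hsub] at he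
      exact he (subset_cl _ (Finset.mem_erase.mpr ⟨fun h => heS (h ▸ hzS), Finset.mem_insert_self _ _⟩))
  have hdisj : (Z : Set Ω).PairwiseDisjoint fun z => cl 𝒞 (Z.erase z) \ Z := by
    intro z hz z' hz' hne
    rw [Function.onFun, Finset.disjoint_left]
    intro x hx hx'
    rw [Finset.mem_sdiff] at hx hx'
    set T := insert x ((Z.erase z).erase z') with hT
    have hT' : T.card = k := by
      rw [hT, Finset.card_insert_of_notMem (fun h => hx.2 (Finset.mem_of_mem_erase (Finset.mem_of_mem_erase h))),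
        Finset.card_erase_of_mem (Finset.mem_erase.mpr ⟨Ne.symm hne, hz'⟩), hTc z hz]
      have : z' ∈ Z.erase z := Finset.mem_erase.mpr ⟨Ne.symm hne, hz'⟩
      have := Finset.card_pos.mpr ⟨z', this⟩
      rw [hTc z hz] at this
      omega
    have h1 : cl 𝒞 T = cl 𝒞 (Z.erase z) := cl_eq_of_subset hk hinv (hTc z hz) hT'
      (Finset.insert_subset hx.1 fun y hy => subset_cl _ (Finset.mem_of_mem_erase hy))
    have h2 : cl 𝒞 T = cl 𝒞 (Z.erase z') := cl_eq_of_subset hk hinv (hTc z' hz') hT'
      (Finset.insert_subset hx'.1 fun y hy => subset_cl _ (by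
        simp only [Finset.mem_erase] at hy ⊢; exact ⟨hy.1, hy.2.2⟩))
    have h3 : z ∈ cl 𝒞 (Z.erase z') := subset_cl _ (Finset.mem_erase.mpr ⟨hne, hz⟩)
    rw [← h2, h1] at h3
    exact hind z hz h3
  have hle : k + 1 + (k + 1) * (κ - k) ≤ (Z ∪ Z.biUnion fun z => cl 𝒞 (Z.erase z) \ Z).card := by
    rw [Finset.card_union_of_disjoint (by
      rw [Finset.disjoint_biUnion_right]
      exact fun z _ => Finset.disjoint_sdiff), Finset.card_biUnion hdisj, hZc]
    refine Nat.add_le_add_left ?_ _
    rw [← hZc, ← smul_eq_mul, ← Finset.sum_const]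
    refine Finset.sum_le_sum fun z hz => ?_
    rw [Finset.card_sdiff, hκ _ (hTc z hz)]
    have hsub : Z ∩ cl 𝒞 (Z.erase z) ⊆ Z.erase z := fun y hy => by
      rw [Finset.mem_inter] at hy
      exact Finset.mem_erase.mpr ⟨fun h => hind z hz (h ▸ hy.2), hy.1⟩
    have := Finset.card_le_card hsub
    rw [hTc z hz] at this
    omega
  refine hle.trans (Finset.card_le_card (Finset.union_subset ?_ (Finset.biUnion_subset.mpr fun z hz =>
    Finset.sdiff_subset.trans (hX _ (Finset.erase_subset _ _) (hTc z hz)))))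
  refine Finset.insert_subset heX (subset_cl S |>.trans (hX S (Finset.subset_insert _ _) hS))

/-- The step. -/
theorem design_step {v w : ℕ} (hn : Fintype.card Ω + 1 = 2 * v) (h2 : IsMultiplyPretransitive G Ω 2)
    (hinv : ∀ (g : G), ∀ C ∈ 𝒞, C.image (g • ·) ∈ 𝒞) (hcard : ∀ C ∈ 𝒞, C.card = v)
    (hJ : ∀ C ∈ 𝒞, ∀ x, x ∉ C → ∀ y, y ∉ C → ∃ g : G, (∀ z ∈ C, g • z = z) ∧ g • x = y)
    (hmax : ∀ C ∈ 𝒞, ∀ C' ∈ 𝒞, C ≠ C' → (C ∩ C').card ≤ w)
    {C₁ C₂ : Finset Ω} (h₁ : C₁ ∈ 𝒞) (h₂ : C₂ ∈ 𝒞) (hne : C₁ ≠ C₂) (hY : (C₁ ∩ C₂).card = w)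
    (hbig : v + 2 ≤ 2 * w) : IsMultiplyPretransitive G Ω v := by
  set Y := C₁ ∩ C₂ with hYdef
  have hwv : w < v := by
    by_contra hle
    have hsub : C₁ ⊆ C₂ := by
      have : Y = C₁ := Finset.eq_of_subset_of_card_le Finset.inter_subset_left (by rw [hcard _ h₁, hY]; omega)
      exact this ▸ Finset.inter_subset_right
    exact hne (Finset.eq_of_subset_of_card_le hsub (by rw [hcard _ h₁, hcard _ h₂]))
  obtain ⟨x, hx⟩ : (C₁ \ C₂).Nonempty := by
    rw [← Finset.card_pos]
    have := Finset.card_inter_add_card_sdiff C₁ C₂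
    rw [← hYdef, hY, hcard _ h₁] at this
    omega
  rw [Finset.mem_sdiff] at hx
  have hxY : x ∉ Y := fun h => hx.2 (Finset.mem_inter.mp h).2
  -- the members through `Y` cover everything
  set 𝒟 := 𝒞.filter fun C => Y ⊆ C with h𝒟
  have hcover : ∀ z, z ∉ Y → ∃ C ∈ 𝒟, z ∈ C := by
    intro z hz
    by_cases h : z ∈ C₂
    · exact ⟨C₂, Finset.mem_filter.mpr ⟨h₂, Finset.inter_subset_right⟩, h⟩
    · obtain ⟨j, hj, hjx⟩ := hJ _ h₂ x hx.2 z h
      exact ⟨C₁.image (j • ·), Finset.mem_filter.mpr ⟨hinv j _ h₁, fun y hy => Finset.mem_image.mpr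
        ⟨y, (Finset.mem_inter.mp hy).1, hj y (Finset.mem_inter.mp hy).2⟩⟩,
        Finset.mem_image.mpr ⟨x, hx.1, hjx⟩⟩
  have hdisj : (𝒟 : Set (Finset Ω)).PairwiseDisjoint fun C => C \ Y := by
    intro C hC C' hC' hCC
    rw [Function.onFun, Finset.disjoint_left]
    intro z hz hz'
    rw [Finset.mem_sdiff] at hz hz'
    obtain ⟨hC1, hC2⟩ := Finset.mem_filter.mp hC
    obtain ⟨hC1', hC2'⟩ := Finset.mem_filter.mp hC'
    have h1 : insert z Y ⊆ C ∩ C' :=
      Finset.insert_subset (Finset.mem_inter.mpr ⟨hz.1, hz'.1⟩) (Finset.subset_inter hC2 hC2')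
    have h2 := Finset.card_le_card h1
    rw [Finset.card_insert_of_notMem hz.2, hY] at h2
    have := hmax C hC1 C' hC1' hCC
    omega
  have h2w : 2 * (v - w) + 1 ≤ w := by
    have hU : 𝒟.biUnion (fun C => C \ Y) = Finset.univ \ Y := by
      ext z
      simp only [Finset.mem_biUnion, Finset.mem_sdiff, Finset.mem_univ, true_and]
      exact ⟨fun ⟨C, _, h⟩ => h.2, fun h => (hcover z h).imp fun C hC => ⟨hC.1, hC.2, h⟩⟩
    have h3 := congrArg Finset.card hU
    rw [Finset.card_biUnion hdisj, Finset.card_univ_sdiff, hY,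
      Finset.sum_const_nat (m := v - w) (fun C hC => by
        obtain ⟨hC1, hC2⟩ := Finset.mem_filter.mp hC
        rw [Finset.card_sdiff_of_subset hC2, hY, hcard _ hC1])] at h3
    by_contra hlt
    rcases Nat.lt_or_ge 𝒟.card 4 with hd | hd
    · have := Nat.mul_le_mul_right (v - w) (show 𝒟.card ≤ 3 by omega)
      omega
    · have := Nat.mul_le_mul_right (v - w) hd
      omega
  -- transitivity up to `w + 1`
  have htrans : ∀ k, 2 ≤ k → k ≤ w + 1 → IsMultiplyPretransitive G Ω k := by
    intro k hk
    induction k, hk using Nat.le_induction with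
    | base => exact fun _ => h2
    | succ k hk2 ih =>
      intro hkw
      have hk := ih (by omega)
      refine multiply_succ hk fun S hS e he e' he' => ?_
      by_cases htriv : ∀ z, z ∉ S → ∃ C ∈ 𝒞, S ⊆ C ∧ z ∉ C
      · obtain ⟨C, hC, hSC, heC⟩ := htriv e he
        obtain ⟨C', hC', hSC', heC'⟩ := htriv e' he'
        obtain ⟨z, hz, hz'⟩ : ∃ z, z ∉ C ∧ z ∉ C' := by
          by_contra hcon
          push Not at hcon
          have h1 : Finset.univ \ C ⊆ C' \ S := fun z hz => by
            rw [Finset.mem_sdiff] at hz ⊢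
            exact ⟨hcon z hz.2, fun h => hz.2 (hSC h)⟩
          have h3 := Finset.card_le_card h1
          rw [Finset.card_univ_sdiff, Finset.card_sdiff_of_subset hSC', hcard _ hC, hcard _ hC', hS] at h3
          omega
        obtain ⟨g, hg, hgz⟩ := hJ C hC e heC z hz
        obtain ⟨g', hg', hgz'⟩ := hJ C' hC' z hz' e' heC'
        exact ⟨g' * g, fun y hy => by rw [mul_smul, hg y (hSC hy), hg' y (hSC' hy)],
          by rw [mul_smul, hgz, hgz']⟩
      · exfalso
        push Not at htriv
        obtain ⟨z, hzS, hz⟩ := htriv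
        set κ := (cl 𝒞 S).card with hκdef
        have hκ : ∀ T : Finset Ω, T.card = k → (cl 𝒞 T).card = κ := fun T hT => card_cl_eq hk hinv hT hS
        have hkκ : k < κ := by
          rw [← hS]
          refine Finset.card_lt_card ⟨subset_cl S, fun hsub => hzS (hsub ?_)⟩
          exact Finset.mem_filter.mpr ⟨Finset.mem_univ _, hz⟩
        have hclY : ∀ T ⊆ Y, cl 𝒞 T ⊆ Y := fun T hT =>
          Finset.subset_inter (cl_subset h₁ (hT.trans Finset.inter_subset_left))
            (cl_subset h₂ (hT.trans Finset.inter_subset_right))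
        have hkw' : k < w := by
          by_contra hle
          have hkw2 : k = w := by omega
          have h3 := hκ Y (hY.trans hkw2.symm)
          have h4 := Finset.card_le_card (hclY Y subset_rfl)
          omega
        obtain ⟨A, hAY, hA⟩ := Finset.exists_subset_card_eq (s := Y) (n := k - 2) (by omega)
        have hxA : x ∉ A := fun h => hxY (hAY h)
        -- the closures of `A ∪ {c, x}`
        let K : Ω → Finset Ω := fun c => cl 𝒞 (insert x (insert c A))
        have hSc : ∀ c ∈ Y \ A, (insert x (insert c A)).card = k := fun c hc => by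
          rw [Finset.mem_sdiff] at hc
          rw [Finset.card_insert_of_notMem, Finset.card_insert_of_notMem hc.2, hA]
          · omega
          · rw [Finset.mem_insert, not_or]
            exact ⟨fun h => hxY (h ▸ hc.1), hxA⟩
        have hKC : ∀ c ∈ Y \ A, K c ⊆ C₁ := fun c hc => cl_subset h₁ (Finset.insert_subset hx.1
          (Finset.insert_subset (Finset.mem_inter.mp (Finset.mem_sdiff.mp hc).1).1
            (hAY.trans Finset.inter_subset_left)))
        have hKY : ∀ c ∈ Y \ A, ∀ y ∈ K c, y ∈ Y → y ∈ insert c A := by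
          intro c hc y hy hyY
          by_contra hyn
          have hT : (insert y (insert c A)).card = k := by
            rw [Finset.card_insert_of_notMem hyn,
              Finset.card_insert_of_notMem (Finset.mem_sdiff.mp hc).2, hA]
            omega
          have h3 : cl 𝒞 (insert y (insert c A)) = K c := cl_eq_of_subset hk hinv (hSc c hc) hT
            (Finset.insert_subset hy (fun u hu => subset_cl _ (Finset.mem_insert_of_mem hu)))
          refine hxY (hclY (insert y (insert c A)) ?_ ?_)
          · exact Finset.insert_subset hyY (Finset.insert_subset (Finset.mem_sdiff.mp hc).1 hAY)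
          · rw [h3]
            exact subset_cl _ (Finset.mem_insert_self _ _)
        have hineq : (w - (k - 2)) * (κ - k) ≤ v - w - 1 := by
          have hd : ((Y \ A : Finset Ω) : Set Ω).PairwiseDisjoint fun c => K c \ insert x (insert c A) := by
            intro c hc c' hc' hcc
            rw [Function.onFun, Finset.disjoint_left]
            intro u hu hu'
            rw [Finset.mem_sdiff] at hu hu'
            simp only [Finset.mem_insert, not_or] at hu hu'
            have hT : (insert x (insert u A)).card = k := by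
              rw [Finset.card_insert_of_notMem, Finset.card_insert_of_notMem hu.2.2.2, hA]
              · omega
              · rw [Finset.mem_insert, not_or]; exact ⟨fun h => hu.2.1 h.symm, hxA⟩
            have hsub : ∀ d, u ∈ K d → insert x (insert u A) ⊆ K d := fun d hd =>
              Finset.insert_subset (subset_cl _ (Finset.mem_insert_self _ _))
                (Finset.insert_subset hd fun a ha => subset_cl _
                  (Finset.mem_insert_of_mem (Finset.mem_insert_of_mem ha)))
            have h3 := cl_eq_of_subset hk hinv (hSc c hc) hT (hsub c hu.1)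
            have h4 := cl_eq_of_subset hk hinv (hSc c' hc') hT (hsub c' hu'.1)
            have h5 : c' ∈ K c := by
              show c' ∈ cl 𝒞 _
              rw [← h3, h4]
              exact subset_cl _ (Finset.mem_insert_of_mem (Finset.mem_insert_self _ _))
            rcases Finset.mem_insert.mp (hKY c hc c' h5 (Finset.mem_sdiff.mp hc').1) with h6 | h6
            · exact hcc h6.symm
            · exact (Finset.mem_sdiff.mp hc').2 h6
          have hsub : (Y \ A).biUnion (fun c => K c \ insert x (insert c A)) ⊆ (C₁ \ Y).erase x := by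
            intro u hu
            obtain ⟨c, hc, hu⟩ := Finset.mem_biUnion.mp hu
            rw [Finset.mem_sdiff] at hu
            simp only [Finset.mem_erase, Finset.mem_sdiff]
            refine ⟨fun h => hu.2 (h ▸ Finset.mem_insert_self _ _), hKC c hc hu.1, fun h => ?_⟩
            exact hu.2 (Finset.mem_insert_of_mem (hKY c hc u hu.1 h))
          have h3 := Finset.card_le_card hsub
          rw [Finset.card_biUnion hd, Finset.card_erase_of_mem (Finset.mem_sdiff.mpr ⟨hx.1, hxY⟩),
            Finset.card_sdiff_of_subset (show Y ⊆ C₁ from Finset.inter_subset_left), hY, hcard _ h₁,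
            Finset.sum_const_nat (m := κ - k) (fun c hc => by
              rw [Finset.card_sdiff_of_subset (subset_cl _), hSc c hc, hκ _ (hSc c hc)]),
            Finset.card_sdiff_of_subset hAY, hY, hA] at h3
          exact h3
        obtain ⟨S₀, hS₀Y, hS₀⟩ := Finset.exists_subset_card_eq (s := Y) (n := k) (by omega)
        by_cases hK : cl 𝒞 S₀ = Y
        · -- `Y` is a closure
          have hκw : κ = w := by rw [← hκ S₀ hS₀, hK, hY]
          have h3 := tits hk hinv hκ hS₀ (hK ▸ hxY) C₁
            (fun T hT _ => cl_subset h₁ (hT.trans (Finset.insert_subset hx.1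
              (hS₀Y.trans Finset.inter_subset_left)))) hx.1
          rw [hcard _ h₁, hκw] at h3
          obtain ⟨u, hu⟩ : ∃ u, w = k + u ∧ 1 ≤ u := ⟨w - k, by omega, by omega⟩
          obtain ⟨rfl, hu1⟩ := hu
          rw [show k + u - k = u by omega] at h3
          have h4 : k + u ≤ (k + 1) * u + 1 := by
            obtain ⟨u', rfl⟩ := Nat.exists_eq_add_of_le hu1
            nlinarith
          have h5 : 2 * (k + u) ≤ (k + 1) + (k + 1) * u := by
            obtain ⟨u', rfl⟩ := Nat.exists_eq_add_of_le hu1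
            obtain ⟨k', rfl⟩ := Nat.exists_eq_add_of_le hk2
            nlinarith
          omega
        · obtain ⟨y, hy, hyn⟩ : ∃ y ∈ Y, y ∉ cl 𝒞 S₀ := by
            by_contra hcon
            push Not at hcon
            exact hK (Finset.Subset.antisymm (hclY _ hS₀Y) hcon)
          have h3 := tits hk hinv hκ hS₀ hyn Y (fun T hT _ => hclY T (hT.trans (Finset.insert_subset hy hS₀Y))) hy
          rw [hY] at h3
          have h4 : k + 1 ≤ (k + 1) * (κ - k) := Nat.le_mul_of_pos_right _ (by omega)
          have h5 : w - (k - 2) ≤ (w - (k - 2)) * (κ - k) := Nat.le_mul_of_pos_right _ (by omega)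
          omega
  have hw1 := htrans (w + 1) (by omega) le_rfl
  -- `w + 1` points lie in one member
  by_cases hvw : v = w + 1
  · exact hvw ▸ hw1
  exfalso
  have hcl : ∀ S : Finset Ω, S.card = w + 1 → (cl 𝒞 S).card = v := by
    intro S hS
    rw [card_cl_eq hw1 hinv hS (show (insert x Y).card = w + 1 by rw [Finset.card_insert_of_notMem hxY, hY]),
      ← hcard _ h₁]
    congr 1
    refine Finset.Subset.antisymm (cl_subset h₁ (Finset.insert_subset hx.1 Finset.inter_subset_left)) ?_
    intro u hu
    refine Finset.mem_filter.mpr ⟨Finset.mem_univ _, fun C hC hsub => ?_⟩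
    by_cases hCC : C = C₁
    · exact hCC ▸ hu
    · have h3 := Finset.card_le_card (Finset.subset_inter hsub
        (Finset.insert_subset hx.1 (Finset.inter_subset_left : Y ⊆ C₁)))
      rw [Finset.card_insert_of_notMem hxY, hY] at h3
      have := hmax C hC C₁ h₁ hCC
      omega
  obtain ⟨u, hu⟩ : ∃ u, u ∉ C₁ := by
    by_contra hcon
    push Not at hcon
    have : C₁ = Finset.univ := Finset.eq_univ_iff_forall.mpr hcon
    have h3 := hcard _ h₁
    rw [this, Finset.card_univ] at h3
    omega
  have hS : (insert x Y).card = w + 1 := by rw [Finset.card_insert_of_notMem hxY, hY]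
  have hucl : u ∉ cl 𝒞 (insert x Y) := fun h =>
    hu (cl_subset h₁ (Finset.insert_subset hx.1 Finset.inter_subset_left) h)
  have h3 := tits hw1 hinv hcl hS hucl Finset.univ (fun _ _ _ => Finset.subset_univ _) (Finset.mem_univ _)
  rw [Finset.card_univ] at h3
  obtain ⟨s, hs⟩ := Nat.exists_eq_add_of_le (show w + 2 ≤ v by omega)
  rw [hs, show w + 2 + s - (w + 1) = s + 1 by omega] at h3
  nlinarith

end CfsgLib.AltGroups.Marggraf
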