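import Mathlib
import Cfsg.Agent.Lib.AltGroups.CycleGlue

/-!
# Two elements of odd prime power order in the alternating group generate, after conjugation,
a non-solvable group with product not of prime power order
-/

set_option autoImplicit false
set_option linter.unusedSectionVars false
set_option linter.style.haveILetI false
set_option linter.deprecated false

namespace CfsgLib.AltGroups.PPowerPair

open Equiv Equiv.Perm CfsgLib.AltGroups.CycleGlue

section Criteria

/-- A group containing `x`, `y` of orders `2`, `3` with product of order `5` is not solvable. -/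
theorem not_solvable_of_235 {G : Type*} [Group G] (K : Subgroup G) {x y : G} (hx : x ∈ K)
    (hy : y ∈ K) (h2 : x ^ 2 = 1) (h3 : y ^ 3 = 1) (h5 : (x * y) ^ 5 = 1) (h1 : x ≠ 1) :
    ¬ Group.IsSolvable K := by
  intro hs
  haveI := hs
  set H := Subgroup.closure ({x, y} : Set G) with hH
  have hle : H ≤ K := (Subgroup.closure_le _).2 (Set.insert_subset hx (Set.singleton_subset_iff.2 hy))
  haveI : Group.IsSolvable H := solvable_of_solvable_injective (Subgroup.inclusion_injective hle)
  have hxH : x ∈ H := Subgroup.subset_closure (Set.mem_insert _ _)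
  have hyH : y ∈ H := Subgroup.subset_closure (Set.mem_insert_of_mem _ rfl)
  haveI : Nontrivial H :=
    ⟨⟨x, hxH⟩, 1, fun e => h1 (congrArg Subtype.val e)⟩
  have hlt := Group.IsSolvable.commutator_lt_top_of_nontrivial H
  apply hlt.ne
  let q := Abelianization.of (G := H)
  set a := q ⟨x, hxH⟩ with ha
  set b := q ⟨y, hyH⟩ with hb
  have a2 : a ^ 2 = 1 := by
    rw [ha, ← map_pow, show (⟨x, hxH⟩ : H) ^ 2 = 1 from Subtype.ext h2, map_one]
  have b3 : b ^ 3 = 1 := by
    rw [hb, ← map_pow, show (⟨y, hyH⟩ : H) ^ 3 = 1 from Subtype.ext h3, map_one]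
  have ab5 : (a * b) ^ 5 = 1 := by
    rw [ha, hb, ← map_mul, ← map_pow,
      show ((⟨x, hxH⟩ : H) * ⟨y, hyH⟩) ^ 5 = 1 from Subtype.ext h5, map_one]
  have a4 : a ^ 4 = 1 := by rw [show (4 : ℕ) = 2 * 2 from rfl, pow_mul, a2, one_pow]
  have e : a * b ^ 2 = 1 := by
    calc a * b ^ 2 = a * a ^ 4 * (b ^ 3 * b ^ 2) := by rw [a4, b3, mul_one, one_mul]
      _ = (a * b) ^ 5 := by rw [mul_pow, ← pow_succ', ← pow_add]
      _ = 1 := ab5
  have eab : a = b := by
    calc a = a * b ^ 3 := by rw [b3, mul_one]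
      _ = a * b ^ 2 * b := by rw [pow_succ b 2, mul_assoc]
      _ = b := by rw [e, one_mul]
  have b1 : b = 1 := by
    have : b ^ 2 = 1 := eab ▸ a2
    simpa [pow_succ, this] using b3
  have a1 : a = 1 := eab.trans b1
  rw [eq_top_iff]
  have key : ∀ z : H, q z = 1 := by
    rintro ⟨z, hz⟩
    induction hz using Subgroup.closure_induction with
    | mem g hg =>
      rcases hg with rfl | hg
      · exact a1
      · obtain rfl := Set.mem_singleton_iff.1 hg
        exact b1
    | one => exact map_one q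
    | mul g h hg hh ihg ihh =>
      rw [show (⟨g * h, mul_mem hg hh⟩ : H) = ⟨g, hg⟩ * ⟨h, hh⟩ from rfl, map_mul, ihg, ihh, one_mul]
    | inv g hg ih =>
      rw [show (⟨g⁻¹, inv_mem hg⟩ : H) = (⟨g, hg⟩ : H)⁻¹ from rfl, map_inv, ih, inv_one]
  intro z _
  exact (QuotientGroup.eq_one_iff z).1 (key z)

variable {β : Type*} [Fintype β] [DecidableEq β]

/-- A transitive group of odd degree with an element fixing exactly two points and cyclic on the
others is not solvable. -/
theorem not_solvable_of_missing (K : Subgroup (Perm β)) {c σ : Perm β} (hc : c ∈ K) (hσ : σ ∈ K)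
    {a b : β} (hab : a ≠ b) (hfa : σ a = a) (hfb : σ b = b)
    (hcyc : σ.IsCycleOn ((Finset.univ \ {a, b} : Finset β) : Set β))
    (htr : ∀ x y : β, c.SameCycle x y)
    (hodd : Odd (Fintype.card β)) (h5 : 5 ≤ Fintype.card β) : ¬ Group.IsSolvable K := by
  classical
  intro hs
  set B : Finset β := Finset.univ \ {a, b} with hBdef
  have hBcard : B.card = Fintype.card β - 2 := by
    rw [hBdef, Finset.card_univ_diff, Finset.card_pair hab]
  have hmemB : ∀ {z}, z ≠ a → z ≠ b → z ∈ B := fun h1 h2 => by simp [hBdef, h1, h2]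
  have hoddB : Odd B.card := by
    obtain ⟨k, hk⟩ := hodd
    exact ⟨k - 1, by omega⟩
  obtain ⟨m, hm⟩ : B.Nonempty := Finset.card_pos.1 (by omega)
  have hma : m ≠ a := by simp [hBdef] at hm; exact hm.1
  have hmb : m ≠ b := by simp [hBdef] at hm; exact hm.2
  have hσm : σ m ≠ m := by
    refine hcyc.apply_ne ?_ hm
    exact Finset.one_lt_card_iff_nontrivial.1 (by omega)
  obtain ⟨k, hk⟩ := hs
  have hex : ∃ j, derivedSeries K j = ⊥ := ⟨k, hk⟩
  set j := Nat.find hex with hj
  have hj0 : j ≠ 0 := by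
    intro h
    have h' : derivedSeries K 0 = ⊥ := by rw [← h]; exact Nat.find_spec hex
    rw [derivedSeries_zero] at h'
    have : (⟨σ, hσ⟩ : K) = 1 := Subgroup.mem_bot.1 (h' ▸ Subgroup.mem_top _)
    exact hσm (by rw [show σ = 1 from congrArg Subtype.val this]; rfl)
  set N := derivedSeries K (j - 1) with hN
  haveI : N.Normal := derivedSeries_normal K _
  have hNbot : N ≠ ⊥ := Nat.find_min hex (by omega)
  have hcomm : ∀ x ∈ N, ∀ y ∈ N, y * x = x * y := by
    have h : ⁅N, N⁆ = ⊥ := by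
      rw [hN, ← derivedSeries_succ, show j - 1 + 1 = j by omega]
      exact Nat.find_spec hex
    exact fun x hx y hy => (Subgroup.commutator_eq_bot_iff_le_centralizer.1 h hx) y hy
  let O : β → Finset β := fun x => Finset.univ.filter fun y => ∃ n ∈ N, (n : Perm β) x = y
  have memO : ∀ {x y}, y ∈ O x ↔ ∃ n ∈ N, (n : Perm β) x = y := fun {x y} => by simp [O]
  have selfO : ∀ x, x ∈ O x := fun x => memO.2 ⟨1, one_mem N, rfl⟩
  have Oeq : ∀ {x y}, y ∈ O x → O y = O x := by
    intro x y hy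
    obtain ⟨n, hn, rfl⟩ := memO.1 hy
    ext z
    simp only [memO]
    constructor
    · rintro ⟨n', hn', rfl⟩; exact ⟨n' * n, mul_mem hn' hn, rfl⟩
    · rintro ⟨n', hn', rfl⟩; exact ⟨n' * n⁻¹, mul_mem hn' (inv_mem hn), by simp⟩
  have Omap : ∀ (g : K) (x y : β), y ∈ O x → (g : Perm β) y ∈ O ((g : Perm β) x) := by
    intro g x y hy
    obtain ⟨n, hn, rfl⟩ := memO.1 hy
    exact memO.2 ⟨g * n * g⁻¹, Subgroup.Normal.conj_mem inferInstance n hn g, by simp⟩
  have Ocard : ∀ x y, (O x).card = (O y).card := by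
    have hle : ∀ x y, (O x).card ≤ (O y).card := by
      intro x y
      obtain ⟨i, hi⟩ := htr x y
      let g : K := ⟨c, hc⟩ ^ i
      have hg : (g : Perm β) x = y := by simpa [g] using hi
      refine Finset.card_le_card_of_injOn (g : Perm β) (fun z hz => ?_) (g : Perm β).injective.injOn
      exact hg ▸ Omap g x z (by simpa using hz)
    exact fun x y => le_antisymm (hle x y) (hle y x)
  let sg : K := ⟨σ, hσ⟩
  have Oσ : ∀ (i : ℕ) x y, y ∈ O x → (σ ^ i) y ∈ O ((σ ^ i) x) := fun i x y h => by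
    have := Omap (sg ^ i) x y h
    simpa [sg] using this
  have hfa' : ∀ i : ℕ, (σ ^ i) a = a := fun i => by
    rw [Perm.coe_pow]; exact Function.iterate_fixed hfa i
  have hcard1 : 1 < (O a).card := by
    obtain ⟨n, hn, hn1⟩ := (Subgroup.ne_bot_iff_exists_ne_one.1 hNbot).imp
      (fun n h => h) |> fun ⟨n, h⟩ => (⟨(n : K), n.2, fun e => h (Subtype.ext e)⟩ :
        ∃ n : K, n ∈ N ∧ n ≠ 1)
    obtain ⟨x, hx⟩ : ∃ x, (n : Perm β) x ≠ x := by
      by_contra hall
      push Not at hall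
      exact hn1 (Subtype.ext (Equiv.ext hall))
    rw [Ocard a x]
    exact Finset.one_lt_card.2 ⟨x, selfO x, _, memO.2 ⟨n, hn, rfl⟩, Ne.symm hx⟩
  have hmO : m ∈ O a := by
    by_contra hnot
    have hB : ∀ z ∈ B, z ∉ O a := by
      intro z hz hza
      obtain ⟨i, -, hi⟩ := hcyc.exists_pow_eq (by simpa using hz) (by simpa using hm)
      exact hnot (by have := Oσ i a z hza; rwa [hfa' i, hi] at this)
    have hOab : O a ⊆ {a, b} := fun z hz => by
      by_contra h
      simp only [Finset.mem_insert, Finset.mem_singleton, not_or] at h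
      exact hB z (hmemB h.1 h.2) hz
    have h2 : (O a).card = 2 := le_antisymm ((Finset.card_le_card hOab).trans Finset.card_le_two) hcard1
    have hOa : O a = {a, b} :=
      Finset.eq_of_subset_of_card_le hOab (by rw [Finset.card_pair hab, h2])
    obtain ⟨m₁, m₂, hne, hm12⟩ := Finset.card_eq_two.1 ((Ocard m a).trans h2)
    obtain ⟨m', hm'O, hm'⟩ : ∃ m' ∈ O m, m' ≠ m := by
      rcases eq_or_ne m₁ m with rfl | h
      · exact ⟨m₂, by simp [hm12], hne.symm⟩
      · exact ⟨m₁, by simp [hm12], h⟩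
    have hOm : O m = {m, m'} := (Finset.eq_of_subset_of_card_le
      (fun z hz => by
        rcases Finset.mem_insert.1 hz with rfl | hz
        · exact selfO _
        · exact (Finset.mem_singleton.1 hz) ▸ hm'O)
      (by rw [Finset.card_pair hm'.symm, Ocard m a, h2])).symm
    have hm'B : m' ∈ B := by
      refine hmemB ?_ ?_ <;>
      · intro e
        apply hnot
        have : O m' = O a := by subst e; exact Oeq (by rw [hOa]; simp)
        rw [← this, Oeq hm'O]
        exact selfO m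
    obtain ⟨i, -, hi⟩ := hcyc.exists_pow_eq (by simpa using hm) (by simpa using hm'B)
    have h2i : (σ ^ i) m' = m := by
      have := Oσ i m m' hm'O
      rw [hi, Oeq hm'O, hOm] at this
      simp only [Finset.mem_insert, Finset.mem_singleton] at this
      rcases this with h | h
      · exact h
      · exfalso
        exact hm' ((σ ^ i).injective (h.trans hi.symm))
    have hdvd : B.card ∣ 2 * i := (hcyc.pow_apply_eq hm).1 (by
      rw [two_mul, pow_add, Perm.mul_apply, hi, h2i])
    have : (σ ^ i) m = m := (hcyc.pow_apply_eq hm).2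
      ((Nat.Coprime.dvd_mul_left (Nat.coprime_two_right.2 hoddB)).1 hdvd)
    exact hm' (hi.symm.trans this)
  have hBO : ∀ z ∈ B, z ∈ O a := by
    intro z hz
    obtain ⟨i, -, hi⟩ := hcyc.exists_pow_eq (by simpa using hm) (by simpa using hz)
    have := Oσ i a m hmO
    rwa [hfa' i, hi] at this
  have hall : ∀ z, z ∈ O a := by
    by_contra hex'
    push Not at hex'
    obtain ⟨z, hz⟩ := hex'
    have hzb : z = b := by
      by_contra h
      exact hz (hBO z (hmemB (fun e => hz (e ▸ selfO a)) h))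
    have hsub : O z ⊆ {b} := fun w hw => by
      rw [Finset.mem_singleton]
      by_contra h
      have hwa : w ∈ O a := by
        rcases eq_or_ne w a with rfl | hwa
        · exact selfO _
        · exact hBO w (hmemB hwa h)
      have : z ∈ O w := by rw [Oeq hw]; exact selfO z
      rw [Oeq hwa] at this
      exact hz this
    have := Finset.card_le_card hsub
    rw [Finset.card_singleton, ← Ocard a z] at this
    omega
  have hfree : ∀ n ∈ N, ∀ x, (n : Perm β) x = x → n = 1 := by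
    intro n hn x hx
    refine Subtype.ext (Equiv.ext fun y => ?_)
    obtain ⟨n', hn', rfl⟩ : ∃ n' ∈ N, (n' : Perm β) x = y := by
      have := hall y
      rw [← Oeq (hall x)] at this
      exact memO.1 this
    calc (n : Perm β) ((n' : Perm β) x) = ((n * n' : K) : Perm β) x := rfl
      _ = ((n' * n : K) : Perm β) x := by rw [hcomm n' hn' n hn]
      _ = (n' : Perm β) x := by simp [hx]
  obtain ⟨n, hn, hnab⟩ := memO.1 (hall b)
  have hcs : sg * n = n * sg := by
    have hmem : n⁻¹ * (sg * n * sg⁻¹) ∈ N :=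
      mul_mem (inv_mem hn) (Subgroup.Normal.conj_mem inferInstance n hn sg)
    have hsa : σ⁻¹ a = a := by
      conv_lhs => rw [← hfa]
      simp
    have hval : ((n⁻¹ * (sg * n * sg⁻¹) : K) : Perm β) a = a := by
      show (n : Perm β)⁻¹ (σ ((n : Perm β) (σ⁻¹ a))) = a
      rw [hsa, hnab, hfb, Equiv.Perm.inv_eq_iff_eq, hnab]
    have := hfree _ hmem a hval
    have h2 : sg * n * sg⁻¹ = n := (inv_mul_eq_one.1 this).symm
    calc sg * n = sg * n * sg⁻¹ * sg := by group
      _ = n * sg := by rw [h2]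
  have hnb : (n : Perm β) b = a := by
    have hfix : σ ((n : Perm β) b) = (n : Perm β) b := by
      calc σ ((n : Perm β) b) = ((sg * n : K) : Perm β) b := rfl
        _ = ((n * sg : K) : Perm β) b := by rw [hcs]
        _ = (n : Perm β) b := by simp [sg, hfb]
    by_contra h
    have hb' : (n : Perm β) b ≠ b := fun e => hab ((n : Perm β).injective (hnab.trans e.symm))
    exact hcyc.apply_ne (Finset.one_lt_card_iff_nontrivial.1 (by omega)) (hmemB h hb') hfix
  have hn2 : n ^ 2 = 1 := hfree _ (pow_mem hn 2) a (by simp [sq, hnab, hnb])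
  have hbij : Function.Bijective (fun k : N => ((k : K) : Perm β) a) := by
    constructor
    · intro k k' h
      have := hfree _ (mul_mem (inv_mem k'.2) k.2) a (by simpa using congrArg ((k' : K) : Perm β).symm h)
      exact Subtype.ext (inv_mul_eq_one.1 this).symm
    · intro y
      obtain ⟨k, hk, hy⟩ := memO.1 (hall y)
      exact ⟨⟨k, hk⟩, hy⟩
  have hNcard : Nat.card N = Fintype.card β := by
    rw [Nat.card_eq_of_bijective _ hbij, Nat.card_eq_fintype_card]
  have ho : orderOf (⟨n, hn⟩ : N) = 2 := by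
    haveI : Fact (Nat.Prime 2) := ⟨Nat.prime_two⟩
    refine orderOf_eq_prime (Subtype.ext hn2) fun e => hab ?_
    have : n = 1 := congrArg Subtype.val e
    rw [this] at hnab
    simpa using hnab
  have : 2 ∣ Fintype.card β := hNcard ▸ ho ▸ orderOf_dvd_natCard _
  exact (Nat.not_even_iff_odd.2 hodd) (even_iff_two_dvd.2 this)

end Criteria

section Transfer

variable {α β : Type*}

/-- Pairs of permutations intertwined by an embedding. -/
def pairSubgroup (e : β ↪ α) : Subgroup (Perm α × Perm β) where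
  carrier := {q | ∀ i, q.1 (e i) = e (q.2 i)}
  one_mem' := fun _ => rfl
  mul_mem' := fun {q r} hq hr i => by
    simp only [Prod.fst_mul, Prod.snd_mul, Perm.mul_apply]
    rw [hr i, hq]
  inv_mem' := fun {q} hq i => by
    simp only [Prod.fst_inv, Prod.snd_inv]
    conv_lhs => rw [← q.2.apply_symm_apply i, ← hq]
    simp

theorem isSolvable_of_intertwined (e : β ↪ α) {u w : Perm α} {u₀ w₀ : Perm β}
    (hu : ∀ i, u (e i) = e (u₀ i)) (hw : ∀ i, w (e i) = e (w₀ i))
    (hs : Group.IsSolvable (Subgroup.closure ({u, w} : Set (Perm α)))) :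
    Group.IsSolvable (Subgroup.closure ({u₀, w₀} : Set (Perm β))) := by
  haveI := hs
  set K' := Subgroup.closure ({(u, u₀), (w, w₀)} : Set (Perm α × Perm β)) with hK'
  have hle : K' ≤ pairSubgroup e :=
    (Subgroup.closure_le _).2 (Set.insert_subset hu (Set.singleton_subset_iff.2 hw))
  have h1 : K'.map (MonoidHom.fst _ _) = Subgroup.closure ({u, w} : Set (Perm α)) := by
    rw [hK', MonoidHom.map_closure, Set.image_pair]; rfl
  have h2 : K'.map (MonoidHom.snd _ _) = Subgroup.closure ({u₀, w₀} : Set (Perm β)) := by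
    rw [hK', MonoidHom.map_closure, Set.image_pair]; rfl
  rw [← h1] at hs
  haveI := hs
  haveI : Group.IsSolvable K' := by
    refine solvable_of_solvable_injective
      (f := (MonoidHom.fst (Perm α) (Perm β)).subgroupMap K') ?_
    rw [injective_iff_map_eq_one]
    rintro ⟨q, hq⟩ h
    have h' : q.1 = 1 := congrArg Subtype.val h
    refine Subtype.ext (Prod.ext h' (Equiv.ext fun i => e.injective ?_))
    have := hle hq i
    rw [h'] at this
    simpa using this.symm
  rw [← h2]
  exact solvable_of_surjective ((MonoidHom.snd (Perm α) (Perm β)).subgroupMap_surjective K')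

theorem pow_eq_one_of_intertwined (e : β ↪ α) {x : Perm α} {x₀ : Perm β}
    (h : ∀ i, x (e i) = e (x₀ i)) {N : ℕ} (hx : x ^ N = 1) : x₀ ^ N = 1 := by
  refine Equiv.ext fun i => e.injective ?_
  have := (pairSubgroup e).pow_mem (x := (x, x₀)) h N i
  simp only [Prod.pow_fst, Prod.pow_snd, hx] at this
  simpa using this.symm

end Transfer

section Main

variable {α : Type*} [Fintype α] [DecidableEq α] {p : ℕ}

/-- The property wanted of a conjugating element. -/
def Good (p : ℕ) (u w g : Perm α) : Prop :=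
  (∀ k : ℕ, (u * (g * w * g⁻¹)) ^ p ^ k ≠ 1) ∧
    ¬ Group.IsSolvable (Subgroup.closure ({u, g * w * g⁻¹} : Set (Perm α)))

theorem good_of_intertwined {β : Type*} {u w g : Perm α} (e : β ↪ α) (u₀ w₀ : Perm β)
    (hu : ∀ i, u (e i) = e (u₀ i)) (hw : ∀ i, (g * w * g⁻¹) (e i) = e (w₀ i))
    (hpow : ∀ k : ℕ, (u₀ * w₀) ^ p ^ k ≠ 1)
    (hns : ¬ Group.IsSolvable (Subgroup.closure ({u₀, w₀} : Set (Perm β)))) : Good p u w g :=
  ⟨fun k h => hpow k (pow_eq_one_of_intertwined e (fun i => by
      simp only [Perm.mul_apply] at hw ⊢; rw [hw i, hu]) h),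
    fun h => hns (isSolvable_of_intertwined e hu hw h)⟩

theorem Good.conj {u w g : Perm α} (h : Good p u w g) (ρ : Perm α) :
    Good p (ρ * u * ρ⁻¹) w (ρ * g) := by
  have e : ρ * g * w * (ρ * g)⁻¹ = ρ * (g * w * g⁻¹) * ρ⁻¹ := by group
  constructor
  · intro k hk
    apply h.1 k
    rw [e, show ρ * u * ρ⁻¹ * (ρ * (g * w * g⁻¹) * ρ⁻¹) = ρ * (u * (g * w * g⁻¹)) * ρ⁻¹ by group,
      conj_pow] at hk
    calc (u * (g * w * g⁻¹)) ^ p ^ k = ρ⁻¹ * (ρ * (u * (g * w * g⁻¹)) ^ p ^ k * ρ⁻¹) * ρ := by group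
      _ = 1 := by rw [hk]; group
  · intro hs
    apply h.2
    rw [e] at hs
    haveI := hs
    have hmap : (Subgroup.closure ({u, g * w * g⁻¹} : Set (Perm α))).map
        (MulAut.conj ρ).toMonoidHom =
        Subgroup.closure ({ρ * u * ρ⁻¹, ρ * (g * w * g⁻¹) * ρ⁻¹} : Set (Perm α)) := by
      rw [MonoidHom.map_closure, Set.image_pair]; rfl
    rw [← hmap] at hs
    haveI := hs
    exact solvable_of_solvable_injective
      (f := (Subgroup.equivMapOfInjective _ (MulAut.conj ρ).toMonoidHom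
        (MulAut.conj ρ).injective).toMonoidHom) (MulEquiv.injective _)

theorem Good.mul_left {u w g ρ : Perm α} (h : Good p u w g) (hρ : Commute ρ u) :
    Good p u w (ρ * g) := by
  have := h.conj ρ
  rwa [hρ.eq, mul_inv_cancel_right] at this

theorem Good.mul_right {u w g ρ : Perm α} (h : Good p u w g) (hρ : Commute ρ w) :
    Good p u w (g * ρ) := by
  have : g * ρ * w * (g * ρ)⁻¹ = g * w * g⁻¹ := by
    rw [mul_inv_rev, mul_assoc g ρ w, hρ.eq]; group
  unfold Good
  rwa [this]

theorem Good.symm {u w g : Perm α} (h : Good p w u g) : Good p u w g⁻¹ := by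
  have := h.conj g⁻¹
  rw [inv_mul_cancel] at this
  obtain ⟨h1, h2⟩ := this
  simp only [one_mul, inv_one, mul_one, inv_inv] at h1 h2
  constructor
  · intro k hk
    apply h1 k
    rw [inv_inv] at hk
    rw [show g⁻¹ * w * g * u = u⁻¹ * (u * (g⁻¹ * w * g)) * u⁻¹⁻¹ by group, conj_pow, hk]
    group
  · rw [inv_inv, Set.pair_comm]
    exact h2

/-- Matching a cycle of `w` with a cycle `c` of the same length. -/
theorem exists_conj_eq_on {w c : Perm α} {x : α} {D : Finset α} (hc : c.IsCycleOn (D : Set α))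
    (hcard : (orb w x).card = D.card) :
    ∃ g : Perm α, ∀ z ∈ D, (g * w * g⁻¹) z = c z := by
  obtain ⟨y, hy⟩ : D.Nonempty := Finset.card_pos.1 (hcard ▸ Finset.card_pos.2 ⟨x, self_mem_orb w x⟩)
  set l := D.card with hl
  have hw := isCycleOn_orb w x
  have inj1 : Function.Injective fun i : Fin l => (w ^ (i : ℕ)) x := fun i j h => Fin.ext
    (Nat.ModEq.eq_of_lt_of_lt ((hw.pow_apply_eq_pow_apply (self_mem_orb w x)).1 h)
      (by rw [hcard]; exact i.2) (by rw [hcard]; exact j.2))
  have inj2 : Function.Injective fun i : Fin l => (c ^ (i : ℕ)) y := fun i j h => Fin.ext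
    (Nat.ModEq.eq_of_lt_of_lt ((hc.pow_apply_eq_pow_apply hy).1 h) i.2 j.2)
  haveI := Equiv.Perm.isMultiplyPretransitive α l
  obtain ⟨g, hg⟩ := MulAction.exists_smul_eq (Perm α) (⟨_, inj1⟩ : Fin l ↪ α) ⟨_, inj2⟩
  have hg' : ∀ i, i < l → g ((w ^ i) x) = (c ^ i) y := fun i hi =>
    congrArg (fun f : Fin l ↪ α => f ⟨i, hi⟩) hg
  refine ⟨g, fun z hz => ?_⟩
  obtain ⟨i, hi, rfl⟩ := hc.exists_pow_eq hy hz
  have hgi : g⁻¹ ((c ^ i) y) = (w ^ i) x := by
    rw [Equiv.Perm.inv_eq_iff_eq]; exact (hg' i hi).symm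
  rw [Perm.mul_apply, Perm.mul_apply, hgi, ← Perm.mul_apply w, ← pow_succ', ← Perm.mul_apply c,
    ← pow_succ']
  by_cases h : i + 1 < l
  · exact hg' _ h
  · have e : i + 1 = l := by omega
    rw [e, (hc.pow_apply_eq hy).2 dvd_rfl]
    rw [show l = (orb w x).card from hcard.symm, (hw.pow_apply_eq (self_mem_orb w x)).2 dvd_rfl]
    simpa using hg' 0 (by omega)

theorem good_of_missing {u w g : Perm α} {D : Finset α} (hD : ∀ z ∈ D, u z ∈ D)
    {σ : Perm α} {a b : α} (M : Missing u⁻¹ D σ a b)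
    (hg : ∀ z ∈ D, (g * w * g⁻¹) z = (u⁻¹ * σ) z)
    {l e : ℕ} (hp : p.Prime) (hp3 : 3 ≤ p) (hl : l = p ^ e) (hcard : D.card = l) (h5 : 5 ≤ l) :
    Good p u w g := by
  classical
  set c := u⁻¹ * σ with hcdef
  have hcD : ∀ z ∈ D, c z ∈ D := fun z hz => Finset.mem_coe.1 (M.prod.1.mapsTo hz)
  have hiff : ∀ {f : Perm α}, (∀ z ∈ D, f z ∈ D) → ∀ z, z ∈ D ↔ f z ∈ D := by
    intro f hf z
    refine ⟨hf z, fun h => ?_⟩
    have himg : D.image f = D := Finset.eq_of_subset_of_card_le
      (fun y hy => by obtain ⟨x, hx, rfl⟩ := Finset.mem_image.1 hy; exact hf x hx)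
      (le_of_eq (Finset.card_image_of_injective _ f.injective).symm)
    rw [← himg, Finset.mem_image] at h
    obtain ⟨y, hy, e⟩ := h
    exact f.injective e ▸ hy
  let u₀ : Perm D := u.subtypePerm fun z => (hiff hD z).symm
  let c₀ : Perm D := c.subtypePerm fun z => (hiff hcD z).symm
  have hσ : ∀ z : D, ((u₀ * c₀) z : α) = σ z := fun z => by simp [u₀, c₀, hcdef]
  let a₀ : D := ⟨a, M.a_mem⟩
  let b₀ : D := ⟨b, M.b_mem⟩
  have ha₀ : (u₀ * c₀) a₀ = a₀ := Subtype.ext ((hσ a₀).trans M.fix_a)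
  have hb₀ : (u₀ * c₀) b₀ = b₀ := Subtype.ext ((hσ b₀).trans M.fix_b)
  have hpowσ : ∀ (n : ℕ) (z : D), (((u₀ * c₀) ^ n) z : α) = (σ ^ n) z := by
    intro n; induction n with
    | zero => intro z; rfl
    | succ n ih => intro z; rw [pow_succ', pow_succ', Perm.mul_apply, Perm.mul_apply σ, ← ih, hσ]
  set B₀ : Finset D := Finset.univ \ {a₀, b₀} with hB₀
  have hmemB : ∀ z : D, z ∈ B₀ ↔ (z : α) ∈ D \ {a, b} := fun z => by
    simp [hB₀, a₀, b₀, Subtype.ext_iff, z.2]
  obtain ⟨m, hm⟩ : (D \ {a, b}).Nonempty := by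
    rw [← Finset.card_pos, Finset.card_sdiff]
    have : (({a, b} : Finset α) ∩ D).card ≤ 2 :=
      (Finset.card_le_card Finset.inter_subset_left).trans Finset.card_le_two
    omega
  let m₀ : D := ⟨m, (Finset.mem_sdiff.1 hm).1⟩
  have hcyc : (u₀ * c₀).IsCycleOn (B₀ : Set D) := by
    refine isCycleOn_mk m₀ (fun z hz => ?_) fun z hz => ?_
    · rw [hmemB] at hz ⊢
      rw [hσ]
      simpa using M.cyc.1.mapsTo hz
    · rw [hmemB] at hz
      obtain ⟨n, -, hn⟩ := M.cyc.exists_pow_eq hm hz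
      exact ⟨n, Subtype.ext (by rw [zpow_natCast, hpowσ]; exact hn)⟩
  have hpowc : ∀ (n : ℕ) (z : D), ((c₀ ^ n) z : α) = (c ^ n) z := by
    intro n z; simp [c₀]
  have htr : ∀ x y : D, c₀.SameCycle x y := fun x y => by
    obtain ⟨n, -, hn⟩ := M.prod.exists_pow_eq x.2 y.2
    exact ⟨n, Subtype.ext (by rw [zpow_natCast, hpowc]; exact hn)⟩
  have hoddl : Odd l := hl ▸ (hp.odd_of_ne_two (by omega)).pow
  have hne : a₀ ≠ b₀ := fun h => M.ne (congrArg Subtype.val h)
  refine good_of_intertwined (Function.Embedding.subtype (· ∈ D)) u₀ c₀ (fun _ => rfl)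
    (fun i => hg i i.2) (fun k hk => ?_) ?_
  · have hdvd : B₀.card ∣ p ^ k :=
      (hcyc.pow_apply_eq ((hmemB m₀).2 hm)).1 (by rw [hk]; rfl)
    have hB : B₀.card = l - 2 := by
      rw [hB₀, Finset.card_univ_diff, Finset.card_pair hne, Fintype.card_coe, hcard]
    rw [hB] at hdvd
    obtain ⟨i, -, hi⟩ := (Nat.dvd_prime_pow hp).1 hdvd
    rcases Nat.eq_zero_or_pos i with rfl | hipos
    · simp at hi; omega
    · have h1 : p ∣ l - 2 := hi ▸ dvd_pow_self p hipos.ne'
      have he : e ≠ 0 := by rintro rfl; simp at hl; omega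
      have h2 : p ∣ l := hl ▸ dvd_pow_self p he
      have h3 : p ∣ 2 := by
        have := Nat.dvd_sub h2 h1
        rwa [show l - (l - 2) = 2 by omega] at this
      have := Nat.le_of_dvd two_pos h3
      omega
  · refine not_solvable_of_missing _ (Subgroup.subset_closure (Set.mem_insert_of_mem _ rfl))
      (mul_mem (Subgroup.subset_closure (Set.mem_insert _ _))
        (Subgroup.subset_closure (Set.mem_insert_of_mem _ rfl))) hne ha₀ hb₀ hcyc htr ?_ ?_
    · rw [Fintype.card_coe, hcard]; exact hoddl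
    · rw [Fintype.card_coe, hcard]; exact h5

theorem card_orb_pow (hp : p.Prime) {u : Perm α} (hu : ∃ k, orderOf u = p ^ k) (x : α) :
    ∃ i, (orb u x).card = p ^ i := by
  obtain ⟨k, hk⟩ := hu
  obtain ⟨i, -, hi⟩ := (Nat.dvd_prime_pow hp).1 (hk ▸ card_orb_dvd_orderOf u x)
  exact ⟨i, hi⟩

theorem orb_inv (u : Perm α) (x : α) : orb u⁻¹ x = orb u x := by
  ext y; simp [sameCycle_inv]

/-- Invariant set of a prescribed size. -/
theorem exists_invariant_card (hp : p.Prime) {u : Perm α} (hu : ∃ k, orderOf u = p ^ k) {l e : ℕ}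
    (hl : l = p ^ e) (hle : l ≤ Fintype.card α) (hmax : ∀ x, (orb u x).card ≤ l) (hne : u ≠ 1) :
    ∃ D : Finset α, D.card = l ∧ (∀ x y, u.SameCycle x y → x ∈ D → y ∈ D) ∧
      ∃ x ∈ D, u x ≠ x := by
  obtain ⟨z, hz⟩ : ∃ z, u z ≠ z := by
    by_contra h; push Not at h; exact hne (Equiv.ext h)
  haveI : Nonempty α := ⟨z⟩
  obtain ⟨x₀, -, hx₀⟩ := Finset.exists_max_image Finset.univ (fun x => (orb u x).card)
    Finset.univ_nonempty
  have dvd_of_le : ∀ {x y}, (orb u x).card ≤ (orb u y).card → (orb u x).card ∣ (orb u y).card := by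
    intro x y h
    obtain ⟨i, hi⟩ := card_orb_pow hp hu x
    obtain ⟨j, hj⟩ := card_orb_pow hp hu y
    rw [hi, hj] at h ⊢
    exact Nat.pow_dvd_pow p ((Nat.pow_le_pow_iff_right hp.one_lt).1 h)
  have dvd_l : ∀ x, (orb u x).card ∣ l := by
    intro x
    obtain ⟨i, hi⟩ := card_orb_pow hp hu x
    have := hmax x
    rw [hi, hl] at this ⊢
    exact Nat.pow_dvd_pow p ((Nat.pow_le_pow_iff_right hp.one_lt).1 this)
  have hx₀m : u x₀ ≠ x₀ := fun h => by
    have h1 : (orb u x₀).card = 1 := by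
      rw [show orb u x₀ = {x₀} from ?_, Finset.card_singleton]
      ext y
      simp only [mem_orb, Finset.mem_singleton]
      exact ⟨fun h' => (h'.eq_of_left h).symm, fun h' => h' ▸ SameCycle.refl u y⟩
    have := hx₀ z (Finset.mem_univ _)
    have := one_lt_card_orb hz
    omega
  have step : ∀ (N : ℕ) (Γ : Finset α), l - Γ.card ≤ N → Γ.card ≤ l →
      (∀ x y, u.SameCycle x y → x ∈ Γ → y ∈ Γ) → (∀ y ∉ Γ, (orb u y).card ∣ Γ.card) →
      x₀ ∈ Γ → ∃ D : Finset α, D.card = l ∧ (∀ x y, u.SameCycle x y → x ∈ D → y ∈ D) ∧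
        x₀ ∈ D := by
    intro N
    induction N with
    | zero => intro Γ h1 h2 h3 _ h5; exact ⟨Γ, by omega, h3, h5⟩
    | succ N ih =>
      intro Γ h1 h2 h3 h4 h5
      rcases h2.lt_or_eq with hlt | heq
      swap
      · exact ⟨Γ, heq, h3, h5⟩
      obtain ⟨y₀, hy₀, hy₀m⟩ := Finset.exists_max_image Γᶜ (fun x => (orb u x).card)
        (Finset.card_pos.1 (by rw [Finset.card_compl]; omega))
      rw [Finset.mem_compl] at hy₀
      have hd : Disjoint Γ (orb u y₀) := Finset.disjoint_left.2 fun z hz hz' =>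
        hy₀ (h3 z y₀ (mem_orb.1 hz').symm hz)
      have hc : (Γ ∪ orb u y₀).card = Γ.card + (orb u y₀).card := Finset.card_union_of_disjoint hd
      have hadd : Γ.card + (orb u y₀).card ≤ l := by
        have := Nat.le_of_dvd (by omega) (Nat.dvd_sub (dvd_l y₀) (h4 y₀ hy₀))
        omega
      have hpos : 0 < (orb u y₀).card := Finset.card_pos.2 ⟨y₀, self_mem_orb u y₀⟩
      refine ih (Γ ∪ orb u y₀) (by omega) (by omega) ?_ ?_ (Finset.mem_union_left _ h5)
      · intro x y hxy hx
        rcases Finset.mem_union.1 hx with hx | hx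
        · exact Finset.mem_union_left _ (h3 x y hxy hx)
        · exact Finset.mem_union_right _ (mem_orb.2 ((mem_orb.1 hx).trans hxy))
      · intro y hy
        rw [Finset.mem_union, not_or] at hy
        rw [hc]
        exact Nat.dvd_add (h4 y hy.1) (dvd_of_le (hy₀m y (Finset.mem_compl.2 hy.1)))
  obtain ⟨D, hD, hinv, hx⟩ := step _ (orb u x₀) le_rfl (hmax x₀)
    (fun x y hxy hx => mem_orb.2 ((mem_orb.1 hx).trans hxy))
    (fun y _ => dvd_of_le (hx₀ y (Finset.mem_univ _))) (self_mem_orb u x₀)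
  exact ⟨D, hD, hinv, x₀, hx, hx₀m⟩

theorem two_mul_sum_pow_lt {p : ℕ} (hp : 3 ≤ p) : ∀ e, 2 * (∑ i ∈ Finset.range e, p ^ i) < p ^ e
  | 0 => by simp
  | e + 1 => by
    have h1 := two_mul_sum_pow_lt hp e
    have h2 : 3 * p ^ e ≤ p ^ (e + 1) := by
      rw [pow_succ']; exact Nat.mul_le_mul_right _ hp
    rw [Finset.sum_range_succ, mul_add]
    omega

/-- A `p`-element with all cycles shorter than `p ^ e ≤ n` has an odd centraliser element. -/
theorem exists_odd_commute (hp : p.Prime) (hp3 : 3 ≤ p) {u : Perm α} (hu : ∃ k, orderOf u = p ^ k)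
    {l e : ℕ} (hl : l = p ^ e) (h2 : 3 ≤ l) (hle : l ≤ Fintype.card α)
    (hlt : ∀ x, (orb u x).card < l) : ∃ ρ : Perm α, sign ρ = -1 ∧ Commute ρ u := by
  classical
  by_contra hno
  push Not at hno
  have hcle : Subgroup.centralizer {u} ≤ alternatingGroup α := by
    intro ρ hρ
    rw [mem_alternatingGroup]
    rcases Int.units_eq_one_or (sign ρ) with h | h
    · exact h
    · exact absurd (Subgroup.mem_centralizer_singleton_iff.1 hρ) (fun hc => hno ρ h hc)
  obtain ⟨-, hsum, hcount⟩ := centralizer_le_alternating_iff.1 hcle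
  have hparts : ∀ i ∈ u.cycleType, ∃ j < e, i = p ^ j := by
    intro i hi
    rw [cycleType_def, Multiset.mem_map] at hi
    obtain ⟨c, hc, rfl⟩ := hi
    rw [← Finset.mem_def] at hc
    obtain ⟨x, hx⟩ := ((mem_cycleFactorsFinset_iff.1 hc).1).nonempty_support
    have hcx := cycle_is_cycleOf hx hc
    have hux : u x ≠ x := by
      rw [← (mem_cycleFactorsFinset_iff.1 hc).2 x hx]
      exact mem_support.1 hx
    have : c.support = orb u x := by
      ext y; rw [hcx, mem_support_cycleOf_iff' hux, mem_orb]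
    obtain ⟨j, hj⟩ := card_orb_pow hp hu x
    refine ⟨j, ?_, by simp [this, hj]⟩
    have h := hlt x
    rw [hj, hl] at h
    exact (Nat.pow_lt_pow_iff_right hp.one_lt).1 h
  have hnd : u.cycleType.Nodup := Multiset.nodup_iff_count_le_one.2 hcount
  have hS : u.cycleType.sum ≤ ∑ i ∈ Finset.range e, p ^ i := by
    have hsub : u.cycleType.toFinset ⊆ (Finset.range e).image (p ^ ·) := fun i hi => by
      obtain ⟨j, hj, rfl⟩ := hparts i (Multiset.mem_toFinset.1 hi)
      exact Finset.mem_image.2 ⟨j, Finset.mem_range.2 hj, rfl⟩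
    calc u.cycleType.sum = ∑ i ∈ u.cycleType.toFinset, i := by
          rw [Finset.sum, Multiset.toFinset_val, hnd.dedup, Multiset.map_id']
      _ ≤ ∑ i ∈ (Finset.range e).image (p ^ ·), i := Finset.sum_le_sum_of_subset hsub
      _ = _ := Finset.sum_image fun i _ j _ h => Nat.pow_right_injective hp.two_le h
  have := two_mul_sum_pow_lt hp3 e
  omega

/-- A good even conjugator. -/
def Result (p : ℕ) (u w : Perm α) : Prop := ∃ g, sign g = 1 ∧ Good p u w g

theorem Result.of_commute {u w g ρ : Perm α} (h : Good p u w g) (hs : sign ρ = -1)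
    (hc : Commute ρ u) : Result p u w := by
  rcases Int.units_eq_one_or (sign g) with hg | hg
  · exact ⟨g, hg, h⟩
  · exact ⟨ρ * g, by simp [hs, hg], h.mul_left hc⟩

theorem Result.symm {u w : Perm α} (h : Result p w u) : Result p u w := by
  obtain ⟨g, hg, h⟩ := h
  exact ⟨g⁻¹, by simp [hg], h.symm⟩

theorem result_long (hp : p.Prime) (hp3 : 3 ≤ p) {u w : Perm α} (hu : ∃ k, orderOf u = p ^ k)
    (hne : u ≠ 1) {l e : ℕ} (hl : l = p ^ e) (h5 : 5 ≤ l) {x : α} (hx : (orb w x).card = l)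
    (hmax : ∀ z, (orb u z).card ≤ l) : Result p u w := by
  have hoddl : Odd l := hl ▸ (hp.odd_of_ne_two (by omega)).pow
  by_cases h : ∃ a, (orb u a).card = l
  · obtain ⟨a, ha⟩ := h
    rw [← orb_inv] at ha
    obtain ⟨σ₁, σ₂, a₁, b₁, a₂, b₂, s, M₁, M₂, hs, hconj, hsD⟩ :=
      missing_pair u⁻¹ a (ha ▸ h5) (ha ▸ hoddl)
    have hD : ∀ z ∈ orb u⁻¹ a, u z ∈ orb u⁻¹ a := fun z hz => by
      rw [orb_inv, mem_orb] at hz ⊢
      exact hz.trans (sameCycle_apply_self u z)
    obtain ⟨g, hg⟩ := exists_conj_eq_on M₁.prod (hx.trans ha.symm)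
    have G₁ := good_of_missing hD M₁ hg hp hp3 hl ha h5
    rcases Int.units_eq_one_or (sign g) with hg1 | hg1
    · exact ⟨g, hg1, G₁⟩
    · refine ⟨s * g, by simp [hs, hg1], good_of_missing hD M₂ (fun z hz => ?_) hp hp3 hl ha h5⟩
      have hz' : s⁻¹ z ∈ orb u⁻¹ a := by
        have himg : (orb u⁻¹ a).image s = orb u⁻¹ a := Finset.eq_of_subset_of_card_le
          (fun y hy => by obtain ⟨q, hq, rfl⟩ := Finset.mem_image.1 hy; exact hsD q hq)
          (le_of_eq (Finset.card_image_of_injective _ s.injective).symm)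
        rw [← himg, Finset.mem_image] at hz
        obtain ⟨q, hq, rfl⟩ := hz
        simpa using hq
      have := hg _ hz'
      rw [hconj, mul_inv_rev]
      simp only [Perm.mul_apply] at this ⊢
      rw [this]
  · push Not at h
    have hlt : ∀ z, (orb u z).card < l := fun z => lt_of_le_of_ne (hmax z) (h z)
    have hn : l ≤ Fintype.card α := hx ▸ Finset.card_le_univ _
    obtain ⟨D, hD, hinv, y, hy, hym⟩ := exists_invariant_card hp hu hl hn hmax hne
    have hinv' : ∀ x y, u⁻¹.SameCycle x y → x ∈ D → y ∈ D := fun x y hxy =>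
      hinv x y (sameCycle_inv.1 hxy)
    obtain ⟨σ, a, b, M⟩ := exists_missing (v := u⁻¹) (fun z => by
      rw [orb_inv]
      obtain ⟨i, hi⟩ := card_orb_pow hp hu z
      rw [hi]; exact (hp.odd_of_ne_two (by omega)).pow) hinv' hy
      (fun h' => hym (by conv_lhs => rw [← h']; simp))
    obtain ⟨g, hg⟩ := exists_conj_eq_on M.prod (hx.trans hD.symm)
    have G := good_of_missing (fun z hz => hinv z _ (sameCycle_apply_self u z) hz) M hg hp hp3 hl hD h5
    obtain ⟨ρ, hρ, hρu⟩ := exists_odd_commute hp hp3 hu hl (by omega) hn hlt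
    exact Result.of_commute G hρ hρu

theorem exists_extend {L : ℕ} (e f : Fin L ↪ α) : ∃ g : Perm α, ∀ i, g (f i) = e i := by
  haveI := Equiv.Perm.isMultiplyPretransitive α L
  obtain ⟨g, hg⟩ := MulAction.exists_smul_eq (Perm α) f e
  exact ⟨g, fun i => congrArg (fun h : Fin L ↪ α => h i) hg⟩

theorem good_config {L : ℕ} {u w : Perm α} (u₀ w₀ : Perm (Fin L)) (e f : Fin L ↪ α)
    (hu : ∀ i, u (e i) = e (u₀ i)) (hw : ∀ i, w (f i) = f (w₀ i))
    (hpow : ∀ k : ℕ, (u₀ * w₀) ^ 3 ^ k ≠ 1)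
    (hns : ¬ Group.IsSolvable (Subgroup.closure ({u₀, w₀} : Set (Perm (Fin L))))) :
    ∃ g, Good 3 u w g := by
  obtain ⟨g, hg⟩ := exists_extend e f
  refine ⟨g, good_of_intertwined e u₀ w₀ hu (fun i => ?_) hpow hns⟩
  rw [Perm.mul_apply, Perm.mul_apply, ← hg i,
    show g⁻¹ (g (f i)) = f i from g.symm_apply_apply _, hw, hg]

theorem pow_three_ne_one {G : Type*} [Group G] {x : G} {m : ℕ} (hm : x ^ m = 1) (h1 : x ≠ 1)
    (hc : m.Coprime 3) (k : ℕ) : x ^ 3 ^ k ≠ 1 := fun h => h1 <| orderOf_eq_one_iff.1 <|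
  Nat.eq_one_of_dvd_coprimes (Nat.Coprime.pow_right k hc) (orderOf_dvd_of_pow_eq_one hm)
    (orderOf_dvd_of_pow_eq_one h)

theorem three_cycle_data {u : Perm α} {x : α} (h : (orb u x).card = 3) :
    u x ≠ x ∧ u (u x) ≠ x ∧ u (u x) ≠ u x ∧ u (u (u x)) = x := by
  have hc := isCycleOn_orb u x
  have h' : ∀ n, (u ^ n) x = x ↔ 3 ∣ n := fun n => h ▸ hc.pow_apply_eq (self_mem_orb u x)
  have a1 : u x ≠ x := fun e => by have := (h' 1).1 (by simpa using e); omega
  have a2 : u (u x) ≠ x := fun e => by have := (h' 2).1 (by simpa [sq] using e); omega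
  refine ⟨a1, a2, fun e => a1 (u.injective e), ?_⟩
  simpa [pow_succ'] using (h' 3).2 dvd_rfl

/-- Either one three-cycle only, or two. -/
def OneCycle (u : Perm α) (x : α) : Prop :=
  u x ≠ x ∧ u (u x) ≠ x ∧ u (u x) ≠ u x ∧ u (u (u x)) = x ∧
    ∀ z, z ∉ ({x, u x, u (u x)} : Finset α) → u z = z

/-- Two disjoint three-cycles. -/
def TwoCycles (u : Perm α) (x y : α) : Prop :=
  u x ≠ x ∧ u (u x) ≠ x ∧ u (u x) ≠ u x ∧ u (u (u x)) = x ∧
  u y ≠ y ∧ u (u y) ≠ y ∧ u (u y) ≠ u y ∧ u (u (u y)) = y ∧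
  y ∉ ({x, u x, u (u x)} : Finset α)

theorem one_or_two {u : Perm α} (h : ∀ z, u z ≠ z → (orb u z).card = 3) (hne : u ≠ 1) :
    (∃ x, OneCycle u x) ∨ ∃ x y, TwoCycles u x y := by
  obtain ⟨x, hx⟩ : ∃ z, u z ≠ z := by
    by_contra h'; push Not at h'; exact hne (Equiv.ext h')
  obtain ⟨a1, a2, a3, a4⟩ := three_cycle_data (h x hx)
  by_cases h2 : ∀ z, z ∉ ({x, u x, u (u x)} : Finset α) → u z = z
  · exact Or.inl ⟨x, a1, a2, a3, a4, h2⟩
  · push Not at h2
    obtain ⟨y, hy, hy'⟩ := h2
    obtain ⟨b1, b2, b3, b4⟩ := three_cycle_data (h y hy')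
    exact Or.inr ⟨x, y, a1, a2, a3, a4, b1, b2, b3, b4, hy⟩

theorem TwoCycles.distinct {u : Perm α} {x y : α} (h : TwoCycles u x y) :
    [x, u x, u (u x), y, u y, u (u y)].Nodup := by
  obtain ⟨a1, a2, a3, a4, b1, b2, b3, b4, hy⟩ := h
  simp only [Finset.mem_insert, Finset.mem_singleton, not_or] at hy
  obtain ⟨y1, y2, y3⟩ := hy
  have c1 : u y ≠ u x := fun e => y1 (u.injective e)
  have c2 : u y ≠ u (u x) := fun e => y2 (u.injective e)
  have c3 : u y ≠ x := fun e => y3 (u.injective (e.trans a4.symm))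
  have d1 : u (u y) ≠ u x := fun e => c3 (u.injective e)
  have d2 : u (u y) ≠ u (u x) := fun e => c1 (u.injective e)
  have d3 : u (u y) ≠ x := fun e => c2 (u.injective (e.trans a4.symm))
  simp [a1.symm, a2.symm, a3.symm, b1.symm, b2.symm, b3.symm, Ne.symm y1, Ne.symm y2, Ne.symm y3,
    Ne.symm c1, Ne.symm c2, Ne.symm c3, Ne.symm d1, Ne.symm d2, Ne.symm d3]

set_option maxRecDepth 8000 in
theorem result_three (h5 : 5 ≤ Fintype.card α) {u w : Perm α}
    (hu : ∃ k, orderOf u = 3 ^ k) (hu3 : ∀ z, (orb u z).card ≤ 3) (hune : u ≠ 1)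
    (hw : ∃ k, orderOf w = 3 ^ k) (hw3 : ∀ z, (orb w z).card ≤ 3) (hwne : w ≠ 1) :
    Result 3 u w := by
  classical
  have hthree : ∀ {v : Perm α}, (∃ k, orderOf v = 3 ^ k) → (∀ z, (orb v z).card ≤ 3) →
      ∀ z, v z ≠ z → (orb v z).card = 3 := by
    intro v hv hv3 z hz
    obtain ⟨i, hi⟩ := card_orb_pow Nat.prime_three hv z
    have h1 := one_lt_card_orb hz
    have h2 := hv3 z
    rw [hi] at h1 h2 ⊢
    rcases i with _ | _ | i
    · simp at h1
    · rfl
    · have : 3 ^ 2 ≤ 3 ^ (i + 2) := Nat.pow_le_pow_right (by norm_num) (by omega)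
      omega
  suffices hg : ∃ g, Good 3 u w g by
    obtain ⟨g, hg⟩ := hg
    obtain ⟨ρ, hρ, hρu⟩ : ∃ ρ : Perm α, sign ρ = -1 ∧ Commute ρ u := by
      by_contra hno
      push Not at hno
      have hcle : Subgroup.centralizer {u} ≤ alternatingGroup α := by
        intro ρ hρ
        rw [mem_alternatingGroup]
        rcases Int.units_eq_one_or (sign ρ) with h | h
        · exact h
        · exact absurd (Subgroup.mem_centralizer_singleton_iff.1 hρ) (fun hc => hno ρ h hc)
      obtain ⟨-, hsum, hcount⟩ := centralizer_le_alternating_iff.1 hcle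
      have hall : ∀ i ∈ u.cycleType, i = 3 := by
        intro i hi
        rw [cycleType_def, Multiset.mem_map] at hi
        obtain ⟨c, hc, rfl⟩ := hi
        rw [← Finset.mem_def] at hc
        obtain ⟨x, hx⟩ := ((mem_cycleFactorsFinset_iff.1 hc).1).nonempty_support
        have hcx := cycle_is_cycleOf hx hc
        have hux : u x ≠ x := by
          rw [← (mem_cycleFactorsFinset_iff.1 hc).2 x hx]
          exact mem_support.1 hx
        have : c.support = orb u x := by
          ext y; rw [hcx, mem_support_cycleOf_iff' hux, mem_orb]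
        simp [this, hthree hu hu3 x hux]
      have hrep := Multiset.eq_replicate_card.2 hall
      have hc3 := hcount 3
      rw [hrep, Multiset.count_replicate_self] at hc3
      rw [hrep, Multiset.sum_replicate, smul_eq_mul] at hsum
      omega
    exact Result.of_commute hg hρ hρu
  -- the configurations
  let a5 : Perm (Fin 5) := swap 0 1 * swap 1 2
  let b5 : Perm (Fin 5) := swap 2 3 * swap 3 4
  let a6 : Perm (Fin 6) := swap 0 1 * swap 1 2 * (swap 3 4 * swap 4 5)
  let b6 : Perm (Fin 6) := swap 0 3 * swap 3 4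
  let c6 : Perm (Fin 6) := swap 0 3 * swap 3 1 * (swap 2 4 * swap 4 5)
  have ns5 : ¬ Group.IsSolvable (Subgroup.closure ({a5, b5} : Set (Perm (Fin 5)))) := by
    have ha : a5 ∈ Subgroup.closure ({a5, b5} : Set (Perm (Fin 5))) :=
      Subgroup.subset_closure (Set.mem_insert _ _)
    have hb : b5 ∈ Subgroup.closure ({a5, b5} : Set (Perm (Fin 5))) :=
      Subgroup.subset_closure (Set.mem_insert_of_mem _ rfl)
    exact not_solvable_of_235 _ (x := a5 * a5 * b5 * a5 * b5) (y := a5)
      (mul_mem (mul_mem (mul_mem (mul_mem ha ha) hb) ha) hb) ha (by decide) (by decide) (by decide)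
      (by decide)
  have nsb : ¬ Group.IsSolvable (Subgroup.closure ({b6, a6} : Set (Perm (Fin 6)))) := by
    have ha : b6 ∈ Subgroup.closure ({b6, a6} : Set (Perm (Fin 6))) :=
      Subgroup.subset_closure (Set.mem_insert _ _)
    have hb : a6 ∈ Subgroup.closure ({b6, a6} : Set (Perm (Fin 6))) :=
      Subgroup.subset_closure (Set.mem_insert_of_mem _ rfl)
    exact not_solvable_of_235 _ (x := b6 * a6 * b6 * a6) (y := b6)
      (mul_mem (mul_mem (mul_mem ha hb) ha) hb) ha (by decide) (by decide) (by decide) (by decide)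
  have nsc : ¬ Group.IsSolvable (Subgroup.closure ({c6, a6} : Set (Perm (Fin 6)))) := by
    have ha : c6 ∈ Subgroup.closure ({c6, a6} : Set (Perm (Fin 6))) :=
      Subgroup.subset_closure (Set.mem_insert _ _)
    have hb : a6 ∈ Subgroup.closure ({c6, a6} : Set (Perm (Fin 6))) :=
      Subgroup.subset_closure (Set.mem_insert_of_mem _ rfl)
    exact not_solvable_of_235 _ (x := c6 * c6 * a6 * c6 * a6) (y := c6)
      (mul_mem (mul_mem (mul_mem (mul_mem ha ha) hb) ha) hb) ha (by decide) (by decide) (by decide)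
      (by decide)
  have two_emb : ∀ {v : Perm α} {x y : α}, TwoCycles v x y →
      ∃ f : Fin 6 ↪ α, ∀ i, v (f i) = f (a6 i) := by
    intro v x y h
    refine ⟨⟨_, List.nodup_iff_injective_get.1 h.distinct⟩, fun i => ?_⟩
    obtain ⟨a1, a2, a3, a4, b1, b2, b3, b4, -⟩ := h
    fin_cases i <;> first | rfl | exact a4 | exact b4
  have mixed : ∀ {s t : Perm α} {x : α}, OneCycle s x → (∃ x y, TwoCycles t x y) →
      ∃ g, Good 3 s t g := by
    intro s t x hs ⟨y, z, ht⟩
    obtain ⟨f, hf⟩ := two_emb ht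
    have h6 : 6 ≤ Fintype.card α := by simpa using Fintype.card_le_of_embedding f
    obtain ⟨a1, a2, a3, a4, hfix⟩ := hs
    obtain ⟨p1, p2, p3, h1, h2, h3, h12, h13, h23⟩ : ∃ p1 p2 p3,
        p1 ∈ ({x, s x, s (s x)} : Finset α)ᶜ ∧ p2 ∈ ({x, s x, s (s x)} : Finset α)ᶜ ∧
        p3 ∈ ({x, s x, s (s x)} : Finset α)ᶜ ∧ p1 ≠ p2 ∧ p1 ≠ p3 ∧ p2 ≠ p3 := by
      apply Finset.two_lt_card_iff.1
      rw [Finset.card_compl]
      have : ({x, s x, s (s x)} : Finset α).card ≤ 3 := Finset.card_le_three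
      omega
    rw [Finset.mem_compl] at h1 h2 h3
    have e1 := hfix _ h1
    have e2 := hfix _ h2
    have e3 := hfix _ h3
    simp only [Finset.mem_insert, Finset.mem_singleton, not_or] at h1 h2 h3
    obtain ⟨q11, q12, q13⟩ := h1
    obtain ⟨q21, q22, q23⟩ := h2
    obtain ⟨q31, q32, q33⟩ := h3
    have hnd : [x, p1, p2, s x, s (s x), p3].Nodup := by
      simp [a1.symm, a2.symm, a3.symm, Ne.symm q11, q12, q13, Ne.symm q21, q22, q23, Ne.symm q31,
        Ne.symm q32, Ne.symm q33, h12, h13, h23]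
    refine good_config b6 a6 ⟨_, List.nodup_iff_injective_get.1 hnd⟩ f (fun i => ?_) hf
      (pow_three_ne_one (m := 4) (by decide) (by decide) (by decide)) nsb
    fin_cases i <;> first | rfl | exact e1 | exact e2 | exact e3 | exact a4
  rcases one_or_two (hthree hu hu3) hune with ⟨x, hx⟩ | h2u <;>
    rcases one_or_two (hthree hw hw3) hwne with ⟨y, hy⟩ | h2w
  · obtain ⟨a1, a2, a3, a4, hfx⟩ := hx
    obtain ⟨b1, b2, b3, b4, hfy⟩ := hy
    have pick : ∀ s : Finset α, s.card ≤ 3 → ∃ p q, p ∉ s ∧ q ∉ s ∧ p ≠ q := by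
      intro s hs
      obtain ⟨p, hp, q, hq, hpq⟩ := Finset.one_lt_card.1
        (show 1 < sᶜ.card by rw [Finset.card_compl]; omega)
      exact ⟨p, q, Finset.mem_compl.1 hp, Finset.mem_compl.1 hq, hpq⟩
    obtain ⟨p1, p2, h1, h2, h12⟩ := pick {x, u x, u (u x)} Finset.card_le_three
    obtain ⟨q1, q2, k1, k2, k12⟩ := pick {y, w y, w (w y)} Finset.card_le_three
    have e1 := hfx _ h1
    have e2 := hfx _ h2
    have g1 := hfy _ k1
    have g2 := hfy _ k2
    simp only [Finset.mem_insert, Finset.mem_singleton, not_or] at h1 h2 k1 k2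
    obtain ⟨q11, q12, q13⟩ := h1
    obtain ⟨q21, q22, q23⟩ := h2
    obtain ⟨r11, r12, r13⟩ := k1
    obtain ⟨r21, r22, r23⟩ := k2
    have hnd : [x, u x, u (u x), p1, p2].Nodup := by
      simp [a1.symm, a2.symm, a3.symm, Ne.symm q11, Ne.symm q12, Ne.symm q13, Ne.symm q21,
        Ne.symm q22, Ne.symm q23, h12]
    have hnd' : [q1, q2, y, w y, w (w y)].Nodup := by
      simp [b1.symm, b2.symm, b3.symm, r11, r12, r13, r21, r22, r23, k12]
    refine good_config a5 b5 ⟨_, List.nodup_iff_injective_get.1 hnd⟩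
      ⟨_, List.nodup_iff_injective_get.1 hnd'⟩ (fun i => ?_) (fun i => ?_)
      (pow_three_ne_one (m := 5) (by decide) (by decide) (by decide)) ns5
    · fin_cases i <;> first | rfl | exact e1 | exact e2 | exact a4
    · fin_cases i <;> first | rfl | exact g1 | exact g2 | exact b4
  · exact mixed hx h2w
  · obtain ⟨g, hg⟩ := mixed hy h2u
    exact ⟨g⁻¹, hg.symm⟩
  · obtain ⟨x, x', hx⟩ := h2u
    obtain ⟨y, y', hy⟩ := h2w
    obtain ⟨f, hf⟩ := two_emb hy
    have hd := hx.distinct
    have hnd : [x, u (u x), x', u x, u x', u (u x')].Nodup :=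
      (List.Perm.nodup_iff (l₂ := [x, u x, u (u x), x', u x', u (u x')])
        ((List.Perm.cons _ ((List.Perm.cons _ (List.Perm.swap _ _ _)).trans
          (List.Perm.swap _ _ _))))).2 hd
    obtain ⟨a1, a2, a3, a4, b1, b2, b3, b4, -⟩ := hx
    refine good_config c6 a6 ⟨_, List.nodup_iff_injective_get.1 hnd⟩ f (fun i => ?_) hf
      (pow_three_ne_one (m := 5) (by decide) (by decide) (by decide)) nsc
    fin_cases i <;> first | rfl | exact a4 | exact b4

theorem exists_result (h5 : 5 ≤ Fintype.card α) (hp : p.Prime) (hp3 : 3 ≤ p) {u w : Perm α}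
    (hu : ∃ k, orderOf u = p ^ k) (hune : u ≠ 1) (hw : ∃ k, orderOf w = p ^ k) (hwne : w ≠ 1) :
    Result p u w := by
  haveI : Nonempty α := Fintype.card_pos_iff.1 (by omega)
  have big : ∀ {u w : Perm α}, (∃ k, orderOf u = p ^ k) → u ≠ 1 → (∃ k, orderOf w = p ^ k) →
      ∀ {x}, (∀ z, (orb u z).card ≤ (orb w x).card) → 5 ≤ (orb w x).card → Result p u w := by
    intro u w hu hune hw x hmax h5x
    obtain ⟨e, he⟩ := card_orb_pow hp hw x
    exact result_long hp hp3 hu hune (l := (orb w x).card) he h5x rfl hmax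
  obtain ⟨x, -, hx⟩ := Finset.exists_max_image Finset.univ (fun z => (orb u z).card)
    Finset.univ_nonempty
  obtain ⟨y, -, hy⟩ := Finset.exists_max_image Finset.univ (fun z => (orb w z).card)
    Finset.univ_nonempty
  by_cases h : (orb u x).card ≤ (orb w y).card
  · by_cases h5' : 5 ≤ (orb w y).card
    · exact big hu hune hw (fun z => (hx z (Finset.mem_univ _)).trans h) h5'
    · obtain ⟨z, hz⟩ : ∃ z, w z ≠ z := by
        by_contra h'; push Not at h'; exact hwne (Equiv.ext h')
      obtain ⟨i, hi⟩ := card_orb_pow hp hw z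
      have h1 := one_lt_card_orb hz
      have h2 := hy z (Finset.mem_univ _)
      have hi0 : i ≠ 0 := by rintro rfl; simp at hi; omega
      have : p ≤ p ^ i := Nat.le_self_pow hi0 p
      have hp3' : p = 3 := by
        have h4 : p ≤ 4 := by omega
        interval_cases p
        · rfl
        · exact absurd hp (by norm_num)
      subst hp3'
      obtain ⟨j, hj⟩ := card_orb_pow hp hw y
      have hw3 : (orb w y).card ≤ 3 := by
        rcases j with _ | _ | j
        · simp at hj; omega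
        · simp at hj; omega
        · have : 3 ^ 2 ≤ 3 ^ (j + 2) := Nat.pow_le_pow_right (by norm_num) (by omega)
          omega
      exact result_three h5 hu (fun z => ((hx z (Finset.mem_univ _)).trans h).trans hw3) hune hw
        (fun z => (hy z (Finset.mem_univ _)).trans hw3) hwne
  · push Not at h
    by_cases h5' : 5 ≤ (orb u x).card
    · exact (big hw hwne hu (fun z => (hy z (Finset.mem_univ _)).trans h.le) h5').symm
    · obtain ⟨z, hz⟩ : ∃ z, w z ≠ z := by
        by_contra h'; push Not at h'; exact hwne (Equiv.ext h')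
      have h1 := one_lt_card_orb hz
      have h2 := hy z (Finset.mem_univ _)
      obtain ⟨i, hi⟩ := card_orb_pow hp hw z
      obtain ⟨j, hj⟩ := card_orb_pow hp hu x
      have hij : i < j := by
        have : p ^ i < p ^ j := by omega
        exact (Nat.pow_lt_pow_iff_right hp.one_lt).1 this
      have hi0 : i ≠ 0 := by rintro rfl; simp at hi; omega
      have : p ^ 2 ≤ p ^ j := Nat.pow_le_pow_right hp.pos (by omega)
      have : 9 ≤ p ^ 2 := Nat.pow_le_pow_left hp3 2
      omega

end Main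

end CfsgLib.AltGroups.PPowerPair
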